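import Cfsg.Agent.Lib.Cert.Mod
import Cfsg.Agent.Lib.PermCert.PL

set_option autoImplicit false
set_option maxRecDepth 100000

namespace Cfsg.Agent.Ct.G24

open Cfsg.Agent.PC

open Cfsg.Agent.Fi Cfsg.Agent.Ct
namespace L1
def t0x : TN := (TN.leaf (nat_lit 0x90b42dd422a0e506a82916b00c605a2511e6e90557a34900a804401a008dd26c83539a18440401))
def t1x : TN := (TN.leaf (nat_lit 0x116b84c452c0b505395c44a651112193d724e554041059718414110991c82040e110190c80c402))
def t2x : TN := (TN.leaf (nat_lit 0x80908aa0182286bb3035020225407089082ec095ba244c82a70b403088482240f401088080e403))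
def t3x : TN := (TN.leaf (nat_lit 0xa08c05541d477113b03d768e7340336d844666d11119ac4426695d810484406652061028810404))
def t4x : TN := (TN.leaf (nat_lit 0xb0a3839eacc11808089a66ec075a924d501822340508890102212099cbd008220206902c812405))
def tt : TN := (TN.node (TN.node (TN.node (TN.node t0x (TN.leaf (nat_lit 0))) (TN.node t4x (TN.leaf (nat_lit 0)))) (TN.node (TN.node t2x (TN.leaf (nat_lit 0))) (TN.node (TN.leaf (nat_lit 0)) (TN.leaf (nat_lit 0))))) (TN.node (TN.node (TN.node t1x (TN.leaf (nat_lit 0))) (TN.node (TN.leaf (nat_lit 0)) (TN.leaf (nat_lit 0)))) (TN.node (TN.node t3x (TN.leaf (nat_lit 0))) (TN.node (TN.leaf (nat_lit 0)) (TN.leaf (nat_lit 0))))))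
noncomputable def T (j c : ℕ) : ℕ := getL tt (nat_lit 13) (nat_lit 31) j c
noncomputable def E (j c : ℕ) : ℕ := getL tt (nat_lit 13) (nat_lit 8191) j c
theorem T_eq (j c : ℕ) : T j c = E j c % 32 :=
  getL_mod (a := 5) (b := 13) _ _ (by norm_num) (by norm_num) (by norm_num) (by norm_num) j c
def rels : List (List ℕ) := [[nat_lit 1, nat_lit 1, nat_lit 1], [nat_lit 3, nat_lit 3, nat_lit 3], [nat_lit 1, nat_lit 0, nat_lit 2, nat_lit 0], [nat_lit 3, nat_lit 0, nat_lit 4, nat_lit 0], [nat_lit 0, nat_lit 1, nat_lit 4, nat_lit 1, nat_lit 4]]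
def inv (i : ℕ) : ℕ := Nat.land (Nat.shiftRight (nat_lit 178256) (Nat.mul (nat_lit 3) i)) (nat_lit 7)
def X_t : TN := (TN.leaf (nat_lit 0))
noncomputable def X (i : ℕ) : ℕ := get9 X_t (nat_lit 1) (nat_lit 1) i
def Jp_t : TN := (TN.leaf (nat_lit 0))
noncomputable def Jp (i : ℕ) : ℕ := get9 Jp_t (nat_lit 1) (nat_lit 1) i
def J_t : TN := (TN.leaf (nat_lit 0))
noncomputable def J (k : ℕ) : ℕ := getV J_t Jp k
def Pa_t : TN := (TN.leaf (nat_lit 0xda3a8b48e82ce799228c5288310a19c3484709209c1482304901a0440280900000))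
noncomputable def Pa (i : ℕ) : ℕ := get9 Pa_t (nat_lit 11) (nat_lit 2047) i
def W_t : TL := (TL.node (TL.node (TL.node (TL.node (TL.leaf [nat_lit 2, nat_lit 1, nat_lit 2, nat_lit 2]) (TL.leaf [nat_lit 2049, nat_lit 4, nat_lit 3, nat_lit 3])) (TL.leaf [nat_lit 6147, nat_lit 0, nat_lit 4, nat_lit 0, nat_lit 3])) (TL.node (TL.node (TL.leaf [nat_lit 4099, nat_lit 0, nat_lit 2, nat_lit 0, nat_lit 1]) (TL.leaf [nat_lit 8196, nat_lit 1, nat_lit 3, nat_lit 2, nat_lit 0, nat_lit 3])) (TL.leaf [nat_lit 8199, nat_lit 2, nat_lit 4, nat_lit 0, nat_lit 1, nat_lit 4]))) (TL.node (TL.node (TL.node (TL.leaf [nat_lit 2050, nat_lit 3, nat_lit 4, nat_lit 4]) (TL.leaf [nat_lit 1, nat_lit 2, nat_lit 1, nat_lit 1])) (TL.leaf [nat_lit 6151, nat_lit 0, nat_lit 3, nat_lit 0, nat_lit 4])) (TL.node (TL.node (TL.leaf [nat_lit 4103, nat_lit 0, nat_lit 1, nat_lit 0, nat_lit 2]) (TL.leaf [nat_lit 8197, nat_lit 3, nat_lit 1, nat_lit 4, nat_lit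 0, nat_lit 1])) (TL.leaf [nat_lit 8198, nat_lit 4, nat_lit 2, nat_lit 0, nat_lit 3, nat_lit 2]))))
noncomputable def W (i : ℕ) : List ℕ := TL.get W_t i
def WA_t : TL := (TL.leaf [nat_lit 0])
noncomputable def WA (i : ℕ) : List ℕ := TL.get WA_t i
noncomputable def row : ℕ → ℕ := hRow (nat_lit 23) (nat_lit 5) (nat_lit 0) (nat_lit 32) (nat_lit 16) (nat_lit 512) (nat_lit 512) (nat_lit 512) (nat_lit 0) E X Pa inv (wfun (nat_lit 12) W_t)
noncomputable def aux : ℕ → ℕ := hAux (nat_lit 24) (nat_lit 5) (nat_lit 32) (nat_lit 512) (nat_lit 512) (nat_lit 2) (nat_lit 2) (nat_lit 512) (nat_lit 0) E X J Pa inv WA_t.get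
theorem r0 : Nat.beq (rng row (nat_lit 0) (nat_lit 24)) (nat_lit 0) = true := by decide +kernel
theorem rows : ∀ i < 24, row i = 0 := by
  have h := zero_lt_zero row
  have h := zero_lt_add (a := (nat_lit 0)) (n := (nat_lit 24)) (b := (nat_lit 24)) h r0 rfl
  exact h
theorem auxs : ∀ i < 0, aux i = 0 := by
  have h := zero_lt_zero aux
  exact h
theorem closes.{u} : ClosesT.{u} inv rels 5 0 24 T :=
  hc_closes (N1 := (nat_lit 23)) rfl T_eq (by decide +kernel) rows auxs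
theorem T_inv : ∀ c < 24, ∀ j < 5, T j c < 24 ∧ T (inv j) (T j c) = c := 
  hc_inv (inv := inv) (N1 := (nat_lit 23)) rfl T_eq rows
end L1

namespace L2
def t0x : TN := (TN.leaf (nat_lit 0x7e29e200e4401c28a4c5006ac81094164a82487407c082b92018a404160068c092915222002d04156e091d30182c02c04152500dc31670624d24674082a13925aea434e0669c4c91922a42bd4df5e10118f5202aa3c0807ea0068201d840361002620048d00da20200411c68060d00f202a43002c60884b0078208c3144a9bea81045982a22c01a5aa7c10450e0110c54e18898618a020892943a1008ca14b8401c0803210054200808005100082000c3144062070c60c08204200102080))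
def t1x : TN := (TN.leaf (nat_lit 0x7ef9e6a338105b360495407c082c19019020af0415c70f2d10212203f5c076b80f41055861413c05adb31971e2a40345405858534b01c820a80c27048ee980a3a0029482901013100a51cdb141b66b36d420220404308080a008c201e040372914e08240c00e2401e40030700681046861212c0324005c600d9400f1001860038900aaa8aa411485002c61cf90126200260822430890c3940804a6b28820100401d200141005820088e888041042841c6002820810c20818e18200182080))
def t2x : TN := (TN.leaf (nat_lit 0x8009e70138c01d020b23c08c880c5a266260336406ae00f9801e820ad04158819144020020ab40988a192d6321020a958986500d8a31c8803704150101357017224bc4405ec3124f0180404a080901011ce4dfa89bb08082b0060f39a040382c04e480501047a20174e6547003840100208d1c02a892901046164a51493a6b088a24f9e8231cc3c08228840c8e0101cc2620044104484026253385986820108641b2492c39c2c2009100081800c20008530288003041021001c200204000))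
def t3x : TN := (TN.leaf (nat_lit 0x7809e600dce026aa03304162a00f180242c02f68076d81101056b404364a8ca80b1801a241cb64394082a430df2e53f48060082a030dd1603828a6c10138f0e2b002e48064a873108e03974708092c0704d71aa602b08084b0094201e840392402258098e00c9400f4004060054c00b2001d041181867cc2919c1a1041161866d4a150208a0c33061470a006820890c328400487288040272001c1009020110401e080341005c20098c0032000e0820430c30c00410a0410020200282080))
def t4x : TN := (TN.leaf (nat_lit 0x75e9e082d8d2e6ac0324c080d00fc1057ae6c974060d010d001ab4bc665788082ad90172203160078200f41054a65ca64b8e200e41054145b82cd9c580dce016ae5c1527988bccc2025a293b55290bbcd02022a86c249e58a8064201f0403a041205169953550208e3403a08234f00e1eea31003c08230f2d01a016100340822cd5d2880170411459684b35108013041123964883539001124d4839e3c948a8401f0803610060200a020821cb0e2001410408a58414d102800c200304000))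
def t5x : TN := (TN.leaf (nat_lit 0x416ce0129d0203c04b76598dcb39d01db803f7008cdd91d70213603c5006eb2d15a01d3964d6ed90d00e1b01cb55c472592cad05a59eb353e4e9861013c1053020a1041400827c104e8209b0413408264104c0209704126082481048820904a52c100d4f00e24014400447b48c201a04033080646005420189cd2508060100bc20170402d080589809cb58f230a408056100a8201484028041100821c104302085041080820c10410400f0801c1003420060400b0801410024104004001))
def tt : TN := (TN.node (TN.node (TN.node (TN.node t0x (TN.leaf (nat_lit 0))) (TN.node t4x (TN.leaf (nat_lit 0)))) (TN.node (TN.node t2x (TN.leaf (nat_lit 0))) (TN.node (TN.leaf (nat_lit 0)) (TN.leaf (nat_lit 0))))) (TN.node (TN.node (TN.node t1x (TN.leaf (nat_lit 0))) (TN.node t5x (TN.leaf (nat_lit 0)))) (TN.node (TN.node t3x (TN.leaf (nat_lit 0))) (TN.node (TN.leaf (nat_lit 0)) (TN.leaf (nat_lit 0))))))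
noncomputable def T (j c : ℕ) : ℕ := getL tt (nat_lit 19) (nat_lit 127) j c
noncomputable def E (j c : ℕ) : ℕ := getL tt (nat_lit 19) (nat_lit 524287) j c
theorem T_eq (j c : ℕ) : T j c = E j c % 128 :=
  getL_mod (a := 7) (b := 19) _ _ (by norm_num) (by norm_num) (by norm_num) (by norm_num) j c
def rels : List (List ℕ) := [[nat_lit 1, nat_lit 1, nat_lit 1], [nat_lit 3, nat_lit 3, nat_lit 3], [nat_lit 1, nat_lit 0, nat_lit 2, nat_lit 0], [nat_lit 3, nat_lit 0, nat_lit 4, nat_lit 0], [nat_lit 0, nat_lit 1, nat_lit 4, nat_lit 1, nat_lit 4], [nat_lit 3, nat_lit 5, nat_lit 3, nat_lit 5, nat_lit 3, nat_lit 5, nat_lit 3, nat_lit 5, nat_lit 3, nat_lit 5], [nat_lit 5, nat_lit 0, nat_lit 1, nat_lit 3, nat_lit 5, nat_lit 1, nat_lit 0, nat_lit 3], [nat_lit 5, nat_lit 3, nat_lit 5, nat_lit 2, nat_lit 3, nat_lit 5, nat_lit 1, nat_lit 5, nat_lit 3, nat_lit 0]]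
def inv (i : ℕ) : ℕ := Nat.land (Nat.shiftRight (nat_lit 0x1ab850) (Nat.mul (nat_lit 3) i)) (nat_lit 7)
def X_t : TN := (TN.leaf (nat_lit 0))
noncomputable def X (i : ℕ) : ℕ := get9 X_t (nat_lit 1) (nat_lit 1) i
def Jp_t : TN := (TN.leaf (nat_lit 0))
noncomputable def Jp (i : ℕ) : ℕ := get9 Jp_t (nat_lit 1) (nat_lit 1) i
def J_t : TN := (TN.leaf (nat_lit 0))
noncomputable def J (k : ℕ) : ℕ := getV J_t Jp k
def Pa_t : TN := (TN.leaf (nat_lit 0xed97b64ed87322cc4f301cbd32f1cb872e0cb4f2d2cb0b2b4cac72b2cac3293ca53292ca43283ca13281ca0b280c996a15a8169f5a7569b5a696995a616975a4d6925a456905a412901a3ca8e4a3820d483460d2830e0c4830a0c082ce0b482c20a382920a282820938252091824a09082160756195855611583560958246085013405101140490102014000))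
noncomputable def Pa (i : ℕ) : ℕ := get9 Pa_t (nat_lit 14) (nat_lit 16383) i
def W_t : TL := (TL.node (TL.node (TL.node (TL.node (TL.node (TL.node (TL.leaf [nat_lit 2, nat_lit 1, nat_lit 2, nat_lit 2]) (TL.leaf [nat_lit 14355, nat_lit 0, nat_lit 5, nat_lit 3, nat_lit 5, nat_lit 2, nat_lit 3, nat_lit 5, nat_lit 1, nat_lit 5, nat_lit 3])) (TL.leaf [nat_lit 12303, nat_lit 4, nat_lit 5, nat_lit 0, nat_lit 1, nat_lit 3, nat_lit 5, nat_lit 1, nat_lit 0])) (TL.node (TL.node (TL.leaf [nat_lit 6149, nat_lit 3, nat_lit 0, nat_lit 3, nat_lit 0]) (TL.leaf [nat_lit 14347, nat_lit 5, nat_lit 1, nat_lit 5, nat_lit 3, nat_lit 0, nat_lit 5, nat_lit 3, nat_lit 5, nat_lit 2, nat_lit 3])) (TL.leaf [nat_lit 12304, nat_lit 5, nat_lit 4, nat_lit 0, nat_lit 2, nat_lit 5, nat_lit 4, nat_lit 2, nat_lit 0]))) (TL.node (TL.node (TL.node (TL.leaf [nat_lit 12292, nat_lit 0, nat_lit 2, nat_lit 5, nat_lit 4, nat_lit 2, nat_lit 0, nat_lit 5,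 nat_lit 4]) (TL.leaf [nat_lit 12299, nat_lit 2, nat_lit 0, nat_lit 3, nat_lit 5, nat_lit 0, nat_lit 1, nat_lit 3, nat_lit 5])) (TL.leaf [nat_lit 10243, nat_lit 5, nat_lit 3, nat_lit 5, nat_lit 3, nat_lit 5, nat_lit 3, nat_lit 5, nat_lit 3, nat_lit 5, nat_lit 3])) (TL.node (TL.node (TL.leaf [nat_lit 14349, nat_lit 2, nat_lit 5, nat_lit 3, nat_lit 0, nat_lit 5, nat_lit 3, nat_lit 5, nat_lit 2, nat_lit 3, nat_lit 5]) (TL.leaf [nat_lit 12290, nat_lit 3, nat_lit 0, nat_lit 2, nat_lit 5, nat_lit 4, nat_lit 2, nat_lit 0, nat_lit 5])) (TL.leaf [nat_lit 10241, nat_lit 4, nat_lit 5, nat_lit 3, nat_lit 5, nat_lit 3, nat_lit 5, nat_lit 3, nat_lit 5, nat_lit 3, nat_lit 5])))) (TL.node (TL.node (TL.node (TL.node (TL.leaf [nat_lit 4103, nat_lit 0, nat_lit 1, nat_lit 0, nat_lit 2]) (TL.leaf [nat_lit 6151, nat_lit 0, nat_lit 3, nat_lit 0, nat_lit 4])) (TL.leaf [nat_lit 4099, nat_lit 0, nat_lit 2, nat_lit 0, nat_lit 1])) (TL.node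 (TL.node (TL.leaf [nat_lit 8199, nat_lit 2, nat_lit 4, nat_lit 0, nat_lit 1, nat_lit 4]) (TL.leaf [nat_lit 12296, nat_lit 5, nat_lit 4, nat_lit 2, nat_lit 0, nat_lit 5, nat_lit 4, nat_lit 0, nat_lit 2])) (TL.leaf [nat_lit 14354, nat_lit 3, nat_lit 5, nat_lit 0, nat_lit 4, nat_lit 5, nat_lit 2, nat_lit 5, nat_lit 4, nat_lit 1, nat_lit 5]))) (TL.node (TL.node (TL.node (TL.leaf [nat_lit 14350, nat_lit 2, nat_lit 5, nat_lit 4, nat_lit 5, nat_lit 0, nat_lit 4, nat_lit 5, nat_lit 2, nat_lit 5, nat_lit 4]) (TL.leaf [nat_lit 12298, nat_lit 3, nat_lit 2, nat_lit 0, nat_lit 5, nat_lit 4, nat_lit 0, nat_lit 2, nat_lit 5])) (TL.leaf [nat_lit 8195, nat_lit 2, nat_lit 4, nat_lit 1, nat_lit 4, nat_lit 0])) (TL.node (TL.leaf [nat_lit 4097, nat_lit 2, nat_lit 0, nat_lit 2, nat_lit 0]) (TL.leaf [nat_lit 12301, nat_lit 0, nat_lit 3, nat_lit 5, nat_lit 0, nat_lit 1, nat_lit 3, nat_lit 5, nat_lit 1]))))) (TL.node (TL.node (TL.node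 (TL.node (TL.node (TL.leaf [nat_lit 2050, nat_lit 3, nat_lit 4, nat_lit 4]) (TL.leaf [nat_lit 14340, nat_lit 3, nat_lit 5, nat_lit 2, nat_lit 5, nat_lit 4, nat_lit 1, nat_lit 5, nat_lit 4, nat_lit 5, nat_lit 0])) (TL.leaf [nat_lit 12293, nat_lit 2, nat_lit 3, nat_lit 5, nat_lit 1, nat_lit 0, nat_lit 3, nat_lit 5, nat_lit 0])) (TL.node (TL.node (TL.leaf [nat_lit 8198, nat_lit 4, nat_lit 2, nat_lit 0, nat_lit 3, nat_lit 2]) (TL.leaf [nat_lit 14342, nat_lit 5, nat_lit 2, nat_lit 5, nat_lit 4, nat_lit 1, nat_lit 5, nat_lit 4, nat_lit 5, nat_lit 0, nat_lit 4])) (TL.leaf [nat_lit 14344, nat_lit 1, nat_lit 5, nat_lit 4, nat_lit 1, nat_lit 5, nat_lit 4, nat_lit 5, nat_lit 0, nat_lit 4, nat_lit 5]))) (TL.node (TL.node (TL.node (TL.leaf [nat_lit 12300, nat_lit 1, nat_lit 0, nat_lit 5, nat_lit 4, nat_lit 0, nat_lit 2, nat_lit 5, nat_lit 4]) (TL.leaf [nat_lit 12295, nat_lit 4, nat_lit 5, nat_lit 1, nat_lit 0, nat_lit 3,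 nat_lit 5, nat_lit 0, nat_lit 1])) (TL.leaf [nat_lit 6145, nat_lit 4, nat_lit 0, nat_lit 4, nat_lit 0])) (TL.node (TL.node (TL.leaf [nat_lit 14339, nat_lit 4, nat_lit 5, nat_lit 2, nat_lit 3, nat_lit 5, nat_lit 1, nat_lit 5, nat_lit 3, nat_lit 0, nat_lit 5]) (TL.leaf [nat_lit 14343, nat_lit 1, nat_lit 3, nat_lit 5, nat_lit 1, nat_lit 5, nat_lit 3, nat_lit 0, nat_lit 5, nat_lit 3, nat_lit 5])) (TL.leaf [nat_lit 12291, nat_lit 0, nat_lit 1, nat_lit 3, nat_lit 5, nat_lit 1, nat_lit 0, nat_lit 3, nat_lit 5])))) (TL.node (TL.node (TL.node (TL.node (TL.leaf [nat_lit 6147, nat_lit 0, nat_lit 4, nat_lit 0, nat_lit 3]) (TL.leaf [nat_lit 12297, nat_lit 5, nat_lit 1, nat_lit 0, nat_lit 3, nat_lit 5, nat_lit 0, nat_lit 1, nat_lit 3])) (TL.leaf [nat_lit 8193, nat_lit 0, nat_lit 1, nat_lit 4, nat_lit 1, nat_lit 4])) (TL.node (TL.node (TL.leaf [nat_lit 2049, nat_lit 4, nat_lit 3, nat_lit 3]) (TL.leaf [nat_lit 14352, nat_lit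 5, nat_lit 4, nat_lit 5, nat_lit 0, nat_lit 4, nat_lit 5, nat_lit 2, nat_lit 5, nat_lit 4, nat_lit 1])) (TL.leaf [nat_lit 8194, nat_lit 4, nat_lit 2, nat_lit 3, nat_lit 2, nat_lit 0]))) (TL.node (TL.node (TL.node (TL.leaf [nat_lit 1, nat_lit 2, nat_lit 1, nat_lit 1]) (TL.leaf [nat_lit 14351, nat_lit 5, nat_lit 3, nat_lit 0, nat_lit 5, nat_lit 3, nat_lit 5, nat_lit 2, nat_lit 3, nat_lit 5, nat_lit 1])) (TL.leaf [nat_lit 12294, nat_lit 1, nat_lit 5, nat_lit 4, nat_lit 2, nat_lit 0, nat_lit 5, nat_lit 4, nat_lit 0])) (TL.node (TL.leaf [nat_lit 8196, nat_lit 1, nat_lit 3, nat_lit 2, nat_lit 0, nat_lit 3]) (TL.leaf [nat_lit 14337, nat_lit 5, nat_lit 3, nat_lit 5, nat_lit 2, nat_lit 3, nat_lit 5, nat_lit 1, nat_lit 5, nat_lit 3, nat_lit 0]))))))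
noncomputable def W (i : ℕ) : List ℕ := TL.get W_t i
def WA_t : TL := (TL.leaf [nat_lit 0])
noncomputable def WA (i : ℕ) : List ℕ := TL.get WA_t i
noncomputable def row : ℕ → ℕ := hRow (nat_lit 79) (nat_lit 6) (nat_lit 5) (nat_lit 128) (nat_lit 64) (nat_lit 8192) (nat_lit 2048) (nat_lit 2048) (nat_lit 0) E X Pa inv (wfun (nat_lit 46) W_t)
noncomputable def aux : ℕ → ℕ := hAux (nat_lit 80) (nat_lit 6) (nat_lit 128) (nat_lit 8192) (nat_lit 2048) (nat_lit 2) (nat_lit 2) (nat_lit 2048) (nat_lit 0) E X J Pa inv WA_t.get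
theorem r0 : Nat.beq (rng row (nat_lit 0) (nat_lit 80)) (nat_lit 0) = true := by decide +kernel
theorem rows : ∀ i < 80, row i = 0 := by
  have h := zero_lt_zero row
  have h := zero_lt_add (a := (nat_lit 0)) (n := (nat_lit 80)) (b := (nat_lit 80)) h r0 rfl
  exact h
theorem auxs : ∀ i < 0, aux i = 0 := by
  have h := zero_lt_zero aux
  exact h
theorem closes.{u} : ClosesT.{u} inv rels 6 5 80 T :=
  hc_closes (N1 := (nat_lit 79)) rfl T_eq (by decide +kernel) rows auxs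
theorem T_inv : ∀ c < 80, ∀ j < 6, T j c < 80 ∧ T (inv j) (T j c) = c := 
  hc_inv (inv := inv) (N1 := (nat_lit 79)) rfl T_eq rows
end L2

namespace L3
def t0x : TN := (TN.leaf (nat_lit 0x7201337e01347c01357b47376a01327a71387c9f39704b3a68613660011876012e660119740b300800fb6a012674010e6201176e00fe0202da66011d684b2c0800d80800d76539236200fd46010b6801166200f35a01136461276a00e25e00c7500100640d2f5e4b31605d2a660b203a00e70202ae580f1e60010c5800bc5a00b66400f8724b2b0800a95e0b12440b214800ab4a00e43600fc0800a24600d34600d25400eb5e00cd02029d5200bd4e0f1a5200cb6c0f29609f22344b08060d2d0202995400cc62090f5200ad5c00aa5200db02028f600d1f5200de5600ef02028d5408f14c009c58009a5000c4520b0402028a5a00e64000c9380915580ee95a00d4484b095000a368491c0800850800845a00ca500ef25600b12c00b7505cf50401283a00d6060b2506092438b6d902027c5916e5440b064409055400c54400a740008e4e00ba5c0903525cf9500aff584adf3e0ae83400b25c8b1b5800ac520cd14e0aec28007f080074080073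0800724e009b4a00b0500901560d1102026b4c0ece3e00764e00962a0cdc584b104c00a51200750202643208c8545cdd480abe380087040114500af75718c6460d0a5a9ef6060d0d0202574260d04000604a08b54a00a14e5ce306090748b6a402025342007d4400790401024a4aee4c5cbf560eed0400fa0800510800504c60b83c006c5000934e0e9402024544007044006d0400f43ed4cf0400f00800430800420400ea30006f3c4888369eaf2a0083060ae10608e0280e8602023b28003e4400692660c336003940e09f0400d53a9e7b260047420a9e3e005f42005d3c9eb9100cb4060ac20608c1060cc002022e4270912e0c892c003f424a903a5c950400bb3a006142488020004608002d08002c08002b0400b336005936002a380e6a3e5ca63c5c7802022540e07732004c3200582e0048344a63300c5b0400a83200282a00340800220400a01c004f060a980608971a0c5202022022002330085c22004a200e4b2c00242c9e5a240c7a1e60680400921e0041060a8c06088b1c0c440202182a0c6e260a8124003a020217040082220a3d345c7e18001d1c001c200836200c35288a551e002720001924001a220830220c2f040071060e67060a66060865340e6202020e300a561c0a3302020d04005e2a7049204a4d060c5402020c04004e02020b1a0011164a381a5c3702020a2260311e0c3204004004003c0c001416000f0a24160202071e701218481e200a10140a1504002904002604002104001f04001b0800050800040400130a0003060a09060808080c06020201040002020200))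
def t1x : TN := (TN.leaf (nat_lit 0x82f53a7a01367401347e01376e01357733396c013260013376f53876f5316801226a012e6600fd52010872012850f52b66012a73452c3c29295e01276600da402f250202d55d33236401196650f864011b5c01165a0112583b1d4001135c00f3620109642f305c01185ecd175800c70202af5400bd60010c6200e23400d04200b20202aa70010e3400bb69311c4a050f5600bc5800d44e00fa0202a06250cb02029e5800ea02029d5400ad02029c5400e45a00ca63312604012f0202990604fc04012d5400ec6000f64a05034e2f2150009b3400c3602f205800f202028e4404f15200cf4e3d145600b15200b902028a5200b83e0515545ae80202870604e75c290046f4e55400e36a291e2c2ee1020282442f06483ade5000ba36008f4e00bf563afe3e05245600d802027c0604d73e00d95a291a502eff0202790604d23000ab3a008d5028ed5a2f024a00c444ecdf562ed35000c902027404011f543ac65205054600762a00b752f5100202710604c14a007d4a00904eecee5200a73000a840009a545af9542f04383cf41404c80202640604b5100075302ec25322ce44006d3a28e94c050148f2cd3a9cac040111462f0b32006b04010d04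010a40005e4804b32205072200a30202530604a21e28a4585af54ef4c546eaf748f4ae4afe9f5004dd0400fb222e9802024e4c04eb3e006a4600694600802028942e00912a007732007f403cf0383aef242e8c02024048fe962e00673acc880400e62e04e02e008502023b0604842a3c862a003d4200450400dc3a00630400db0400d63c007b2e00550400d1422ea6462ebe0400cc443aa5102eb602022e0604730400c03c3a7002022d06046f40005d3800612e0057080066443c923a003e2a003f322e950202290400b434005634046534002c020225060460385a780400b002022406045c303c5a32002832004c0400a9322e7e2a003130004d0400a11c04971c00510202200604501814522c00212e004922004b262e4a2c2e582a9c482e0034262e810400931e048b1e00430202180604421a144404008924003a260046143c3c04008338c66832045924001b2280380202120604362a001a22001e22002704007a02021006043004007204006e04006c02020e06042b3028622a00391e00111c3c2604005f04005b02020c06042304005404004f1200131e001902020a06041d1a5a370400471e2e33040041123a17163c1f18281514000b0c281604003504003204002f18500f04002a1a000d04002210000704001c102e090202020400140a04080c0005020201060404061406040003020200))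
def t2x : TN := (TN.leaf (nat_lit 0x84013a7801357801327c7f37788d396ca936728d385e7f336a7f347801316601190202fd68352f0202fa74012952012b64c12a3e0128707f2c5c55276400fe4201254000d95e01236635305000f66200f30202c76c00e25a011d6a010c6235205c00d4628d225a7f186001175a351f4000e95000ee3ea91c58111e0202ab5400c24c010b6e910e0202a85e11134800aa0202a760111a50352d2400a44600df5400c55600b84c00f75c00cd4e00ae5e00e55200d35800da64552e0800fb0202994c8d085600b968012148009d5ec0f85a009f3a00b75a551b5610f24600f042008e3a008d5000bd5200ce52c0f94e00965635043c00af5600e80800e60202874800e452110052c0e3602b122e00e13000864600cb4a00de52009a02027f02027d64a9263cc0d5548cd80800d602027c040124568d095800ca0800d1020279323511508cef5400b14a00ad0202766401065834ff4eb8c91600b65655165600c650009e4834cc3236f43200b20800c00202714c34db48007752371454350a32350d4ec0dd5036ec5036ea282ac31200740800b40202644a00a5408d105434ed02025d0401154a009c5237023c00ac2ea8d004010f0202572e36bb51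0ebc4400784600752000a02010a30800a10202530401074c009b0401050401030401014ec0f53e6cba0400fc2400981e00524a008a3400662200920202454600692c90914834be3434dc0400f13896cf26008c2000440400eb02023f3c00880400e72c00822c108508008302023b0400e028004644349330968f34005648c0bf0400d73a6c7b0202310400d23a005e288c904432c40e2ab30400c808007202022e0400c13e007008006e02022d4234b002022c3034a93cc0954410943a003a2c348906106a3600620400b538c07e32002936346c08005f0202253ec0a63e8c6d08005b02022432005a3400392e00492ca46b3290632c347a0202210400a21a004e1a105108004f0202200400972e345430345820104b28004a2c8c4c2c004802021a242a3d40e2801c00401c104308004102021804008b28106738b86828348116003c04008422103e287e282400371c001b0800350202122c344720001902021128325508002f02021004007304006f32106108002a02020e0400653010592034321e002604006004005c08002202020c2a7e4d04005018001620343308001c02020a226c382896341c521e0400421400170e00131a001502020710361f0400361c10270400301a000f04002b18540d04002312341404001d1200090c00060e320b0800020a1005080003020201040008040004040000))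
def t3x : TN := (TN.leaf (nat_lit 0x7601357401397801366801376201336401327201346e43387ea73a6401225e011874232f6aa73170010e5e012c6201086a011b0202da6a01276200fe5b2d263e00d64401245a012371432e4c011460011766231f0202c662072956011c6601160202bf4c01195a00fd5c00c764832a5e01154800d00202ac0607135801013400dc08010d6c00fc5000ee5e071e3800ae4a00a86000d26200fb4e01072e009f4400db4800b15a00ba5200eb5400bb02029b0607006a072804013028232d4ca72b2a26fa5600b86200a94600cc4c070a5ca7094a00c15926f302028e5800de2a26f02e06f250070f02028a0606ed5200dd4e00c40202870606e95a00e75600af3600df4607054e00a14600e22a00833400e02800d14e00cf5827022c00b34282e45e431d02027c0606d93800d73a26d50401255000ca2c007d5682f54442e50401215626f10202760606ce42009650071a5400c55222e60800c00401205a830c52a6d450229a4000b21800b44a00a548007f4cbecb44007002026b0606bd4a23114a00b95483034a00ad0202640606b744008f1400714e43102e007244009d4800913ad2c93400a75288f90401120202570606ab48009c48a6f604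010b4000654c26f40202530606a44456a24a26a03088e32a009e0401060401046206f80400ff5406ea28009920004f2200970400f73c005f0202454c00923000482200904422b04406732a42ef28008d22004124008b0400ec44006c3800880400e802023b0606864200842600820400e126003c4000804806c82e004c2800790400d83c007b3a00390400d340ca892800770400cd02022e0606751222b54006c30400c240e46d2e82953c82a60400be2882780400bc02022a3c00693c00680202290606670a226e0400b628004d0202250606623a002b38226f32066a3a425d24227a2ca6632e06940202230606590400aa3000552c00223000280400a30202200606521e00501c264e0400982e225b2a004702021d1e00382a002130229324827e2242462a585a0202180606442000421e264004008c34be6002021706063e22003a04008504008136825c1a001c1c064b2600302606362c225420002624223226584920223514001204007402020e06062d241e3f32005e0400661a583402020d1c001104006102020c04005804005624263104005118261f0a062718563704004a16261b1a06241a001904004304003d0202070606160c261314000f10001004003306162f1a221404002c061e1e16421a16000b14000a0e00031000080400150202010606060c00040a2602040009040005020200))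
def t4x : TN := (TN.leaf (nat_lit 0x80013272773970013366773776c53874773a70773460df366277356c012e0202fd76012f7201222a00fc5c772c4e00fb66011664011d6c00fe6839285c01260202d542132458772362c5310202d00202c768011f60010c6000da54471c682d2a5200cb4a77195c2d305e2d2064471b5c13154a2d210801120202ac4c00bb5000b35200ee6e2d2d06130f5c00c60202a74e00f65e00f560772b4c130702029e4800e402029d5600b95a00dd562d110800ff02029b6135275877186a770e6077082c00fa5400ad64009c0202964a00a85800d24e00a55a00f33000ef5800cf2c00f02c008e4e390d0800ec02028a50fb0256009a0800e802028758b2e75400c94600d14400db3200a04476e20202823212e03476e556faf15072eb327d104213050401290800d802027c36b2d73c2d253c00d65400c50202795ec509267cdf4639144c76de0800cd020276442cf74e00bf4e76d43c00af4a007f5b2f1704011e527cca4cfaea4200720202714838f40612c804011a02026d0800bc02026b5239015813034876ba542cf90800b6020264140073162cc22a72dc3edec3462d04460090542ce6362d0b48deb80401130800aa0202576012f848730a32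76ae3e006e4812c10800a30202534600a24c2ce34c00a12c2d0628769f42c4b14672a90401005200c426769902024e201297406acc30006f30005a3200484a7293462cb0203091426ab50400f226308d02024022128b0400ed4200783646880400e908008502023b40b284282ce124728302023a3e468046fac02600472a2cd30400d93ac47b26005c26767d2a006c2676770400ce08007402022e46008f2c7cb21238b4422cbe3a005f0c00654200704272890400bd34005e3ac8693a46680800660202293e2ca60400b72e005b08006102022536003f3a2c9530aa2a3c005d38003930004d2c00450800580202230400ab0202222e2c562e00340400a40800510202201c12501e2c981e004f2630632c2c7e1e003702021c2800312e3892287c4c2400460400940800430202181e1242202c8c20004126002b08003d020217242c81040086206a3c382c7a1c2c4a1a001d2800352200301c002802021126003226002124123608001004007508002c02020e38ba6004006a0400672e2c540c001e1e2c330400621c001a0400592a1255282c490400521a001f08000d04004b184e3818001b18000c18461904004404003e0800150202071c000f0e0014122c2f1a38260e3012123e1304002d04002704002414120b12300a0202020e12080400160800050202010a12040c2c090c0003040006040000))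
def t5x : TN := (TN.leaf (nat_lit 0x790b3a8001387e653978013202032364013462853560853376653774010e5f13307801250202fb70012876652c6400fc0202de7001246edb2d0202d80202d6765f2f6e45290401365c00d962672164011e6a01106313205c00fe0202c20202c06801015201085a00d70202b50202b05800ed5600f05e00ef5c00b75400d1685f1f6600d3728f316000bc0202a76200ff6401054e00ae5085196400ec60670663370a6000a35400b65a00e666691a5e00d261130b5a651d020299624d2b04012e5a18fa0202970202965600c85400df02028f5c00ce02028e5a00aa5800af5445145c41133800e25669156269075000a55400b45800c14600cc2400dc584502460090020286020285361aee5a00ca4a44a45264f604012a02027f226ee75000a902027c5a8522040127588f180401262418d556009864690f5cb100525f110202774200bb5a5ef45200a144eee80202755912e1020274545ef740008d0202735200b202027202027104011c565ee904011b0202705000a04c00b15f2b0d4018cf3c00ad4200ab0202645a5f12526903040117526eea1a18b35108c54af6bd0401165728f14c65093a1aba020257401cb95868f24e6edb46006d04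010c0202544e68eb4c00e05e5f042200835040cd4edabe30008432005d02025130009102025002024f0400fd550ad40400f90400f802024648004d48005f4800812e849c4484e50400f50400f33e84c73400493600474a848a44004c02023e02023b0400e40400e32e8e9f206ea222004e46f0920202390400dd02023628006b0400da3800403e00610800520202300400d002022e0400cb0400c90400c60400c40400c30400bf3c003c38002d4418a840006a26847d3eda6c2e002c0202293a005826002f38005a0400b82e004238003a3c5e7a20002a466e932e003d30ae9e30002432b04336c2653600563840670400ac3468590202210400a6020220061c7904009d04009b04009a201882466894425e8924002620001d325e8c02021a34688b0400950202182c003434005b2c64632a0022368e7b0202170400882c185e3a5e6f04008736446204008020003202021304007e1a002b2aa04422001c1e6438020210040078245e66040076365e6e2c8669184c351e6e6004006808000e16402722684b02020c2e685c265e12284c410400550400531e661f02020a1e5e4a2062331c181b04004802020904004504003f1800081c40141e0015040037280023020206040031020205061a2802020404002502020304001e04001916441602020104001104000f04000d04000b061802040007020200))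
def t6x : TN := (TN.leaf (nat_lit 0x2033002032d02032702032674012902031a02031602031302030502030004013a74010369412e0401390202e70202e36e010d72d9366e01110401380401376400f96801200202d30202d26ed1216675246a00f26c00ea0202c46d071c60010f0401350202be0202bd4e00b50401346075155400cc0401336a01026d05280202aa5f071b0202a96ce92a6000bb4200d56600d00202a60202a06000f44c00fa0401325c00db72cf2f693b125c00ac0401315d24ff02029a50009d6800f85e00a24b010662d125673cfc5c7af70202925b20f55e75074800b068cf1f5c00ce5600cd02028c02028b5800bf5400e45200da6b3f1e5600d94e00b604012c5800b7020286531eec04012b0202842e00d14200880202810202805200c64e00b85ad10450d6eb5504e95400c95200a42e00ab40dd0b02027a0401230401222c92e1651f0a0202765a92f15474f05315144e00bc020274531cd84b04c80202735110dd02027204011d3c00783c92c240e6a34a00b4571eed0401190401184d02cb5e750c0202670202664cfcdc56d0e64d1ae84d071748dcc04c009402026102026046b4f302025b0202590202585b0d012ca2d604011004010e48d8a8020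255040109020253510cd74200c15d0cfb3200970401080202520202514ed8fd0202503c00650400fe02024e08004f30aca10202484000854a9ab346f8930400f60202440202430202420202410202400400ef0400ee02023f46e84a4074e03400540400e53ece950400e240005f2e006a0400df0400de0202373c9a7e0202350202330202320400d40202303ad8c302022f0400cf4200620400ca0400c70400c53a004702022d3e003e3a746e02022c3c005c02022b2c9a820202293a98680400ba0400b93ad69b02022702022640dc750400b20400b13ed08334983d0202243ace6c0400af0202230400ae0400ad0202223400450400a732b4870400a504009f04009e04009c06209804009902021e02021d26744b48008902021b04009638bc7102021932bc5604009104009004008f04008e04008d04008a3cb46f36005e26002a02021602021502021402021304007f227a1f04007d02021104007c04007b2a002104007904007702020f04007004006d04006b24783c04006902020d0400640400632c001c04005d04005a04005728983102020b24003604004d04004c2a942504004902020904004602020802020704003b04003a04003904003802020604003402020504002e02020404002802020304002002020204001a04001804001704001204001004000e04000c04000a020200040001))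
def tt : TN := (TN.node (TN.node (TN.node (TN.node t0x (TN.leaf (nat_lit 0))) (TN.node t4x (TN.leaf (nat_lit 0)))) (TN.node (TN.node t2x (TN.leaf (nat_lit 0))) (TN.node t6x (TN.leaf (nat_lit 0))))) (TN.node (TN.node (TN.node t1x (TN.leaf (nat_lit 0))) (TN.node t5x (TN.leaf (nat_lit 0)))) (TN.node (TN.node t3x (TN.leaf (nat_lit 0))) (TN.node (TN.leaf (nat_lit 0)) (TN.leaf (nat_lit 0))))))
noncomputable def T (j c : ℕ) : ℕ := getL tt (nat_lit 24) (nat_lit 511) j c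
noncomputable def E (j c : ℕ) : ℕ := getL tt (nat_lit 24) (nat_lit 0xffffff) j c
theorem T_eq (j c : ℕ) : T j c = E j c % 512 :=
  getL_mod (a := 9) (b := 24) _ _ (by norm_num) (by norm_num) (by norm_num) (by norm_num) j c
def rels : List (List ℕ) := [[nat_lit 1, nat_lit 1, nat_lit 1], [nat_lit 3, nat_lit 3, nat_lit 3], [nat_lit 1, nat_lit 0, nat_lit 2, nat_lit 0], [nat_lit 3, nat_lit 0, nat_lit 4, nat_lit 0], [nat_lit 0, nat_lit 1, nat_lit 4, nat_lit 1, nat_lit 4], [nat_lit 3, nat_lit 5, nat_lit 3, nat_lit 5, nat_lit 3, nat_lit 5, nat_lit 3, nat_lit 5, nat_lit 3, nat_lit 5], [nat_lit 5, nat_lit 0, nat_lit 1, nat_lit 3, nat_lit 5, nat_lit 1, nat_lit 0, nat_lit 3], [nat_lit 5, nat_lit 3, nat_lit 5, nat_lit 2, nat_lit 3, nat_lit 5, nat_lit 1, nat_lit 5, nat_lit 3, nat_lit 0], [nat_lit 6, nat_lit 0, nat_lit 1, nat_lit 3, nat_lit 6, nat_lit 5, nat_lit 1, nat_lit 4, nat_lit 2, nat_lit 5, nat_lit 4], [nat_lit 6, nat_lit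 0, nat_lit 5, nat_lit 0, nat_lit 6, nat_lit 3, nat_lit 2, nat_lit 5, nat_lit 3, nat_lit 5, nat_lit 4, nat_lit 5], [nat_lit 6, nat_lit 5, nat_lit 2, nat_lit 5, nat_lit 2, nat_lit 6, nat_lit 0, nat_lit 5, nat_lit 4, nat_lit 5, nat_lit 1, nat_lit 5], [nat_lit 6, nat_lit 1, nat_lit 6, nat_lit 3, nat_lit 6, nat_lit 4, nat_lit 0, nat_lit 6, nat_lit 1, nat_lit 5, nat_lit 0, nat_lit 5, nat_lit 4, nat_lit 5], [nat_lit 6, nat_lit 2, nat_lit 5, nat_lit 3, nat_lit 5, nat_lit 6, nat_lit 0, nat_lit 6, nat_lit 1, nat_lit 3, nat_lit 1, nat_lit 5, nat_lit 1, nat_lit 5, nat_lit 4, nat_lit 5, nat_lit 1], [nat_lit 6, nat_lit 2, nat_lit 6, nat_lit 5, nat_lit 6, nat_lit 5, nat_lit 1, nat_lit 6, nat_lit 4, nat_lit 2, nat_lit 5, nat_lit 4, nat_lit 5, nat_lit 1], [nat_lit 6, nat_lit 3, nat_lit 6, nat_lit 3, nat_lit 2, nat_lit 6, nat_lit 4, nat_lit 6, nat_lit 2, nat_lit 4, nat_lit 2], [nat_lit 6, nat_lit 1, nat_lit 5, nat_lit 6, nat_lit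 1, nat_lit 6, nat_lit 4, nat_lit 0, nat_lit 6, nat_lit 5, nat_lit 2, nat_lit 6, nat_lit 1, nat_lit 4, nat_lit 5, nat_lit 2, nat_lit 5], [nat_lit 6, nat_lit 1, nat_lit 5, nat_lit 6, nat_lit 4, nat_lit 5, nat_lit 6, nat_lit 1, nat_lit 6, nat_lit 4, nat_lit 6, nat_lit 4, nat_lit 5, nat_lit 0, nat_lit 5, nat_lit 3]]
def inv (i : ℕ) : ℕ := Nat.land (Nat.shiftRight (nat_lit 0xfab850) (Nat.mul (nat_lit 3) i)) (nat_lit 7)
def X_t : TN := (TN.leaf (nat_lit 0))
noncomputable def X (i : ℕ) : ℕ := get9 X_t (nat_lit 1) (nat_lit 1) i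
def Jp_t : TN := (TN.leaf (nat_lit 0))
noncomputable def Jp (i : ℕ) : ℕ := get9 Jp_t (nat_lit 1) (nat_lit 1) i
def J_t : TN := (TN.leaf (nat_lit 0))
noncomputable def J (k : ℕ) : ℕ := getV J_t Jp k
def Pa_t : TN := (TN.leaf (nat_lit 0x4cc1a65ad12768933448d6234d1166889b4415a200d0fd487e943ed61f44ee76771b3b795db46eda076c2bb595daa8ed51769b3b499da08ec7476393b18dd88cec257602bafcdd7ccebd675aabac15d5e2eae07561bab11d564eaa67550baa59d504ea75753a3a9c9d4ccea067500ba791d3c2e9d474e8ba741d382e9b374da3a699d32ae99174c93a641d2eae96574b23a499d1eae8f07472ba38dd1c2e8d074633a2d99146c8a46450b228190e6c8746438b21c990ccc865642ab21199048c821640b320198feac7f263e931f158f86c7c463e0b1f098f80c7a663ca31e458f24c77563b331d8d8ec8c76263aab1d198e8ac741639b31cd58e4cc725638ab1c518e22c7126382b1b518d66c6b46358319d98cccc6456321b19118c82c6426320318598c0cc5d262db316598b0cc57562b9b15d18ae4c57062ab315158a6cc533629a314c58a64c5306293314598a2ac5066282b13d5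89ccc4e46270b121988cac453622931141888cc436621331059880cc4046200a8fd947e4a3e551daa8ecd4768a3b151d928ec14748a39551bb28d9546aca336519328c49460ca305517b28b9545c6a2e45170a8b8945c0a2d65168a8b49458ca2c2515b28a8d452ca2955149a8a514522a27651332894d44a8a251512928941448ca2415121288d94466a234511328891442aa2125102a880d4408a20151012880143cca1d650e9a8711436ca1a550d128659430aa18350c2286054304a18040baa05cd02e8817040b320559028c8136409aa048502448116408a20449020a81014081203d901c680e44070a038901c080d64069a0341018a80c34060a0309018080b6405820295014280a2405020259012a8086303b181ccc0e86072303818198c0ca6056302a98118c08a6036301a98098c0486021200a9004c80284011200910040400c0000))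
noncomputable def Pa (i : ℕ) : ℕ := get9 Pa_t (nat_lit 17) (nat_lit 131071) i
def W_t1 : TL := (TL.node (TL.node (TL.node (TL.node (TL.node (TL.node (TL.leaf [nat_lit 2, nat_lit 1, nat_lit 2, nat_lit 2]) (TL.leaf [nat_lit 28677, nat_lit 6, nat_lit 3, nat_lit 2, nat_lit 6, nat_lit 4, nat_lit 6, nat_lit 2, nat_lit 4, nat_lit 2, nat_lit 6, nat_lit 3])) (TL.leaf [nat_lit 26631, nat_lit 5, nat_lit 6, nat_lit 5, nat_lit 1, nat_lit 6, nat_lit 4, nat_lit 2, nat_lit 5, nat_lit 4, nat_lit 5, nat_lit 1, nat_lit 6, nat_lit 2, nat_lit 6])) (TL.node (TL.node (TL.leaf [nat_lit 12304, nat_lit 5, nat_lit 4, nat_lit 0, nat_lit 2, nat_lit 5, nat_lit 4, nat_lit 2, nat_lit 0]) (TL.leaf [nat_lit 18445, nat_lit 1, nat_lit 5, nat_lit 3, nat_lit 5, nat_lit 4, nat_lit 5, nat_lit 6, nat_lit 0, nat_lit 5, nat_lit 0, nat_lit 6, nat_lit 3])) (TL.leaf [nat_lit 16386, nat_lit 4, nat_lit 5, nat_lit 1, nat_lit 3, nat_lit 2, nat_lit 5, nat_lit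 6, nat_lit 4, nat_lit 2, nat_lit 0, nat_lit 6]))) (TL.node (TL.node (TL.node (TL.leaf [nat_lit 12292, nat_lit 0, nat_lit 2, nat_lit 5, nat_lit 4, nat_lit 2, nat_lit 0, nat_lit 5, nat_lit 4]) (TL.leaf [nat_lit 20494, nat_lit 6, nat_lit 1, nat_lit 5, nat_lit 1, nat_lit 5, nat_lit 6, nat_lit 5, nat_lit 2, nat_lit 5, nat_lit 3, nat_lit 5, nat_lit 0])) (TL.leaf [nat_lit 30729, nat_lit 2, nat_lit 6, nat_lit 4, nat_lit 0, nat_lit 6, nat_lit 5, nat_lit 2, nat_lit 6, nat_lit 1, nat_lit 4, nat_lit 5, nat_lit 2, nat_lit 5, nat_lit 6, nat_lit 1, nat_lit 5, nat_lit 6])) (TL.node (TL.leaf [nat_lit 20483, nat_lit 5, nat_lit 2, nat_lit 5, nat_lit 2, nat_lit 6, nat_lit 0, nat_lit 5, nat_lit 4, nat_lit 5, nat_lit 1, nat_lit 5, nat_lit 6]) (TL.leaf [nat_lit 28691, nat_lit 3, nat_lit 2, nat_lit 6, nat_lit 3, nat_lit 6, nat_lit 3, nat_lit 2, nat_lit 6, nat_lit 4, nat_lit 6, nat_lit 2])))) (TL.node (TL.node (TL.node (TL.node (TL.leaf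 [nat_lit 16402, nat_lit 1, nat_lit 0, nat_lit 6, nat_lit 3, nat_lit 5, nat_lit 1, nat_lit 3, nat_lit 2, nat_lit 5, nat_lit 6, nat_lit 4]) (TL.leaf [nat_lit 28680, nat_lit 6, nat_lit 3, nat_lit 6, nat_lit 1, nat_lit 4, nat_lit 6, nat_lit 4, nat_lit 6, nat_lit 1, nat_lit 3, nat_lit 1])) (TL.leaf [nat_lit 20481, nat_lit 6, nat_lit 5, nat_lit 2, nat_lit 5, nat_lit 2, nat_lit 6, nat_lit 0, nat_lit 5, nat_lit 4, nat_lit 5, nat_lit 1, nat_lit 5])) (TL.node (TL.leaf [nat_lit 14349, nat_lit 2, nat_lit 5, nat_lit 3, nat_lit 0, nat_lit 5, nat_lit 3, nat_lit 5, nat_lit 2, nat_lit 3, nat_lit 5]) (TL.leaf [nat_lit 16404, nat_lit 0, nat_lit 6, nat_lit 3, nat_lit 5, nat_lit 1, nat_lit 3, nat_lit 2, nat_lit 5, nat_lit 6, nat_lit 4, nat_lit 2]))) (TL.node (TL.node (TL.node (TL.leaf [nat_lit 1, nat_lit 2, nat_lit 1, nat_lit 1]) (TL.leaf [nat_lit 16392, nat_lit 4, nat_lit 2, nat_lit 5, nat_lit 6, nat_lit 4, nat_lit 2, nat_lit 0,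 nat_lit 6, nat_lit 3, nat_lit 5, nat_lit 1])) (TL.leaf [nat_lit 26648, nat_lit 6, nat_lit 1, nat_lit 6, nat_lit 2, nat_lit 5, nat_lit 3, nat_lit 5, nat_lit 1, nat_lit 3, nat_lit 6, nat_lit 2, nat_lit 5, nat_lit 6, nat_lit 5])) (TL.node (TL.leaf [nat_lit 16393, nat_lit 6, nat_lit 5, nat_lit 1, nat_lit 4, nat_lit 2, nat_lit 5, nat_lit 4, nat_lit 6, nat_lit 0, nat_lit 1, nat_lit 3]) (TL.leaf [nat_lit 28689, nat_lit 1, nat_lit 4, nat_lit 2, nat_lit 6, nat_lit 3, nat_lit 6, nat_lit 3, nat_lit 2, nat_lit 6, nat_lit 4, nat_lit 6]))))) (TL.node (TL.node (TL.node (TL.node (TL.node (TL.leaf [nat_lit 4099, nat_lit 0, nat_lit 2, nat_lit 0, nat_lit 1]) (TL.leaf [nat_lit 26652, nat_lit 6, nat_lit 2, nat_lit 5, nat_lit 3, nat_lit 5, nat_lit 1, nat_lit 3, nat_lit 6, nat_lit 2, nat_lit 5, nat_lit 6, nat_lit 5, nat_lit 6, nat_lit 1])) (TL.leaf [nat_lit 28686, nat_lit 2, nat_lit 4, nat_lit 6, nat_lit 4, nat_lit 6, nat_lit 1, nat_lit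 3, nat_lit 1, nat_lit 6, nat_lit 3, nat_lit 6])) (TL.node (TL.leaf [nat_lit 20498, nat_lit 5, nat_lit 1, nat_lit 5, nat_lit 6, nat_lit 5, nat_lit 2, nat_lit 5, nat_lit 3, nat_lit 5, nat_lit 0, nat_lit 6, nat_lit 1]) (TL.leaf [nat_lit 14343, nat_lit 1, nat_lit 3, nat_lit 5, nat_lit 1, nat_lit 5, nat_lit 3, nat_lit 0, nat_lit 5, nat_lit 3, nat_lit 5]))) (TL.node (TL.node (TL.node (TL.leaf [nat_lit 2049, nat_lit 4, nat_lit 3, nat_lit 3]) (TL.leaf [nat_lit 20497, nat_lit 3, nat_lit 5, nat_lit 1, nat_lit 5, nat_lit 6, nat_lit 5, nat_lit 2, nat_lit 5, nat_lit 2, nat_lit 6, nat_lit 0, nat_lit 5])) (TL.leaf [nat_lit 26639, nat_lit 6, nat_lit 4, nat_lit 2, nat_lit 5, nat_lit 4, nat_lit 5, nat_lit 1, nat_lit 6, nat_lit 2, nat_lit 6, nat_lit 5, nat_lit 6, nat_lit 5, nat_lit 1])) (TL.node (TL.leaf [nat_lit 20496, nat_lit 2, nat_lit 5, nat_lit 1, nat_lit 5, nat_lit 6, nat_lit 5, nat_lit 2, nat_lit 5, nat_lit 3, nat_lit 5,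 nat_lit 0, nat_lit 6]) (TL.leaf [nat_lit 26640, nat_lit 1, nat_lit 5, nat_lit 6, nat_lit 5, nat_lit 6, nat_lit 1, nat_lit 6, nat_lit 2, nat_lit 5, nat_lit 3, nat_lit 5, nat_lit 1, nat_lit 3, nat_lit 6])))) (TL.node (TL.node (TL.node (TL.node (TL.leaf [nat_lit 32790, nat_lit 5, nat_lit 3, nat_lit 6, nat_lit 5, nat_lit 2, nat_lit 6, nat_lit 4, nat_lit 5, nat_lit 0, nat_lit 5, nat_lit 3, nat_lit 6, nat_lit 3, nat_lit 6, nat_lit 2, nat_lit 6]) (TL.leaf [nat_lit 28684, nat_lit 6, nat_lit 1, nat_lit 4, nat_lit 6, nat_lit 4, nat_lit 6, nat_lit 1, nat_lit 3, nat_lit 1, nat_lit 6, nat_lit 3])) (TL.leaf [nat_lit 20485, nat_lit 1, nat_lit 5, nat_lit 2, nat_lit 6, nat_lit 0, nat_lit 5, nat_lit 4, nat_lit 5, nat_lit 1, nat_lit 5, nat_lit 6, nat_lit 5])) (TL.node (TL.leaf [nat_lit 12291, nat_lit 0, nat_lit 1, nat_lit 3, nat_lit 5, nat_lit 1, nat_lit 0, nat_lit 3, nat_lit 5]) (TL.leaf [nat_lit 28694, nat_lit 6, nat_lit 1,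 nat_lit 3, nat_lit 1, nat_lit 6, nat_lit 3, nat_lit 6, nat_lit 1, nat_lit 4, nat_lit 6, nat_lit 4]))) (TL.node (TL.node (TL.node (TL.leaf [nat_lit 4101, nat_lit 1, nat_lit 0, nat_lit 1, nat_lit 0]) (TL.leaf [nat_lit 32785, nat_lit 6, nat_lit 4, nat_lit 6, nat_lit 4, nat_lit 5, nat_lit 0, nat_lit 5, nat_lit 3, nat_lit 6, nat_lit 1, nat_lit 5, nat_lit 6, nat_lit 4, nat_lit 5, nat_lit 6, nat_lit 1])) (TL.leaf [nat_lit 24600, nat_lit 6, nat_lit 5, nat_lit 4, nat_lit 5, nat_lit 1, nat_lit 6, nat_lit 2, nat_lit 5, nat_lit 3, nat_lit 5, nat_lit 2, nat_lit 5, nat_lit 2, nat_lit 4, nat_lit 2, nat_lit 6, nat_lit 0])) (TL.node (TL.leaf [nat_lit 28679, nat_lit 4, nat_lit 2, nat_lit 6, nat_lit 4, nat_lit 6, nat_lit 2, nat_lit 4, nat_lit 2, nat_lit 6, nat_lit 3, nat_lit 6]) (TL.leaf [nat_lit 28673, nat_lit 6, nat_lit 3, nat_lit 6, nat_lit 3, nat_lit 2, nat_lit 6, nat_lit 4, nat_lit 6, nat_lit 2, nat_lit 4, nat_lit 2]))))))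
def W_t2 : TL := (TL.node (TL.node (TL.node (TL.node (TL.node (TL.node (TL.leaf [nat_lit 4103, nat_lit 0, nat_lit 1, nat_lit 0, nat_lit 2]) (TL.leaf [nat_lit 20503, nat_lit 5, nat_lit 6, nat_lit 5, nat_lit 2, nat_lit 5, nat_lit 2, nat_lit 6, nat_lit 0, nat_lit 5, nat_lit 4, nat_lit 5, nat_lit 1])) (TL.leaf [nat_lit 12290, nat_lit 3, nat_lit 0, nat_lit 2, nat_lit 5, nat_lit 4, nat_lit 2, nat_lit 0, nat_lit 5])) (TL.node (TL.leaf [nat_lit 14355, nat_lit 0, nat_lit 5, nat_lit 3, nat_lit 5, nat_lit 2, nat_lit 3, nat_lit 5, nat_lit 1, nat_lit 5, nat_lit 3]) (TL.leaf [nat_lit 32799, nat_lit 4, nat_lit 6, nat_lit 1, nat_lit 5, nat_lit 6, nat_lit 4, nat_lit 5, nat_lit 6, nat_lit 1, nat_lit 6, nat_lit 4, nat_lit 6, nat_lit 4, nat_lit 5, nat_lit 0, nat_lit 5]))) (TL.node (TL.node (TL.node (TL.leaf [nat_lit 12300, nat_lit 1, nat_lit 0, nat_lit 5, nat_lit 4, nat_lit 0, nat_lit 2, nat_lit 5, nat_lit 4]) (TL.leaf [nat_lit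 32773, nat_lit 5, nat_lit 6, nat_lit 4, nat_lit 5, nat_lit 6, nat_lit 1, nat_lit 6, nat_lit 4, nat_lit 6, nat_lit 4, nat_lit 5, nat_lit 0, nat_lit 5, nat_lit 3, nat_lit 6, nat_lit 1])) (TL.leaf [nat_lit 16390, nat_lit 2, nat_lit 3, nat_lit 2, nat_lit 5, nat_lit 6, nat_lit 4, nat_lit 2, nat_lit 0, nat_lit 6, nat_lit 3, nat_lit 5])) (TL.node (TL.leaf [nat_lit 12296, nat_lit 5, nat_lit 4, nat_lit 2, nat_lit 0, nat_lit 5, nat_lit 4, nat_lit 0, nat_lit 2]) (TL.leaf [nat_lit 16406, nat_lit 6, nat_lit 3, nat_lit 5, nat_lit 1, nat_lit 3, nat_lit 2, nat_lit 5, nat_lit 6, nat_lit 4, nat_lit 2, nat_lit 0])))) (TL.node (TL.node (TL.node (TL.node (TL.leaf [nat_lit 18437, nat_lit 5, nat_lit 0, nat_lit 6, nat_lit 3, nat_lit 2, nat_lit 5, nat_lit 3, nat_lit 5, nat_lit 4, nat_lit 5, nat_lit 6, nat_lit 0]) (TL.leaf [nat_lit 22549, nat_lit 0, nat_lit 5, nat_lit 4, nat_lit 5, nat_lit 6, nat_lit 1, nat_lit 6, nat_lit 3, nat_lit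 6, nat_lit 4, nat_lit 0, nat_lit 6, nat_lit 1, nat_lit 5])) (TL.leaf [nat_lit 24587, nat_lit 6, nat_lit 0, nat_lit 6, nat_lit 1, nat_lit 3, nat_lit 1, nat_lit 5, nat_lit 1, nat_lit 5, nat_lit 4, nat_lit 5, nat_lit 1, nat_lit 6, nat_lit 2, nat_lit 5, nat_lit 3, nat_lit 5])) (TL.node (TL.leaf [nat_lit 32777, nat_lit 3, nat_lit 5, nat_lit 6, nat_lit 1, nat_lit 6, nat_lit 4, nat_lit 6, nat_lit 4, nat_lit 5, nat_lit 0, nat_lit 5, nat_lit 3, nat_lit 6, nat_lit 1, nat_lit 5, nat_lit 6]) (TL.leaf [nat_lit 26633, nat_lit 6, nat_lit 5, nat_lit 1, nat_lit 6, nat_lit 4, nat_lit 2, nat_lit 5, nat_lit 4, nat_lit 5, nat_lit 1, nat_lit 6, nat_lit 2, nat_lit 6, nat_lit 5]))) (TL.node (TL.node (TL.node (TL.leaf [nat_lit 6145, nat_lit 4, nat_lit 0, nat_lit 4, nat_lit 0]) (TL.leaf [nat_lit 22541, nat_lit 0, nat_lit 6, nat_lit 1, nat_lit 5, nat_lit 0, nat_lit 5, nat_lit 4, nat_lit 5, nat_lit 6, nat_lit 1, nat_lit 6, nat_lit 3, nat_lit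 6, nat_lit 4])) (TL.leaf [nat_lit 18444, nat_lit 2, nat_lit 4, nat_lit 6, nat_lit 0, nat_lit 5, nat_lit 0, nat_lit 6, nat_lit 5, nat_lit 3, nat_lit 5, nat_lit 4, nat_lit 5])) (TL.node (TL.leaf [nat_lit 22552, nat_lit 6, nat_lit 2, nat_lit 6, nat_lit 5, nat_lit 3, nat_lit 5, nat_lit 0, nat_lit 5, nat_lit 2, nat_lit 6, nat_lit 0, nat_lit 3, nat_lit 6, nat_lit 4]) (TL.leaf [nat_lit 32800, nat_lit 6, nat_lit 4, nat_lit 5, nat_lit 0, nat_lit 5, nat_lit 3, nat_lit 6, nat_lit 3, nat_lit 6, nat_lit 2, nat_lit 6, nat_lit 5, nat_lit 3, nat_lit 6, nat_lit 5, nat_lit 2]))))) (TL.node (TL.node (TL.node (TL.node (TL.node (TL.leaf [nat_lit 8199, nat_lit 2, nat_lit 4, nat_lit 0, nat_lit 1, nat_lit 4]) (TL.leaf [nat_lit 30754, nat_lit 6, nat_lit 5, nat_lit 1, nat_lit 5, nat_lit 3, nat_lit 2, nat_lit 6, nat_lit 1, nat_lit 5, nat_lit 6, nat_lit 0, nat_lit 3, nat_lit 6, nat_lit 2, nat_lit 6, nat_lit 5, nat_lit 2])) (TL.leaf [nat_lit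 28674, nat_lit 2, nat_lit 3, nat_lit 1, nat_lit 6, nat_lit 3, nat_lit 6, nat_lit 1, nat_lit 4, nat_lit 6, nat_lit 4, nat_lit 6])) (TL.node (TL.leaf [nat_lit 12294, nat_lit 1, nat_lit 5, nat_lit 4, nat_lit 2, nat_lit 0, nat_lit 5, nat_lit 4, nat_lit 0]) (TL.leaf [nat_lit 28687, nat_lit 6, nat_lit 2, nat_lit 4, nat_lit 2, nat_lit 6, nat_lit 3, nat_lit 6, nat_lit 3, nat_lit 2, nat_lit 6, nat_lit 4]))) (TL.node (TL.node (TL.node (TL.leaf [nat_lit 28682, nat_lit 4, nat_lit 6, nat_lit 1, nat_lit 4, nat_lit 6, nat_lit 4, nat_lit 6, nat_lit 1, nat_lit 3, nat_lit 1, nat_lit 6]) (TL.leaf [nat_lit 14344, nat_lit 1, nat_lit 5, nat_lit 4, nat_lit 1, nat_lit 5, nat_lit 4, nat_lit 5, nat_lit 0, nat_lit 4, nat_lit 5])) (TL.leaf [nat_lit 14347, nat_lit 5, nat_lit 1, nat_lit 5, nat_lit 3, nat_lit 0, nat_lit 5, nat_lit 3, nat_lit 5, nat_lit 2, nat_lit 3])) (TL.node (TL.leaf [nat_lit 22544, nat_lit 0, nat_lit 3, nat_lit 6, nat_lit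 4, nat_lit 6, nat_lit 2, nat_lit 6, nat_lit 5, nat_lit 3, nat_lit 5, nat_lit 0, nat_lit 5, nat_lit 2, nat_lit 6]) (TL.leaf [nat_lit 14351, nat_lit 5, nat_lit 3, nat_lit 0, nat_lit 5, nat_lit 3, nat_lit 5, nat_lit 2, nat_lit 3, nat_lit 5, nat_lit 1])))) (TL.node (TL.node (TL.node (TL.node (TL.leaf [nat_lit 30744, nat_lit 6, nat_lit 2, nat_lit 6, nat_lit 5, nat_lit 2, nat_lit 6, nat_lit 5, nat_lit 1, nat_lit 5, nat_lit 3, nat_lit 2, nat_lit 6, nat_lit 1, nat_lit 5, nat_lit 6, nat_lit 0, nat_lit 3]) (TL.leaf [nat_lit 22556, nat_lit 6, nat_lit 5, nat_lit 3, nat_lit 5, nat_lit 0, nat_lit 5, nat_lit 2, nat_lit 6, nat_lit 0, nat_lit 3, nat_lit 6, nat_lit 4, nat_lit 6, nat_lit 2])) (TL.leaf [nat_lit 22551, nat_lit 5, nat_lit 4, nat_lit 5, nat_lit 6, nat_lit 1, nat_lit 6, nat_lit 3, nat_lit 6, nat_lit 4, nat_lit 0, nat_lit 6, nat_lit 1, nat_lit 5, nat_lit 0])) (TL.node (TL.leaf [nat_lit 18439, nat_lit 0, nat_lit 6, nat_lit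 3, nat_lit 2, nat_lit 5, nat_lit 3, nat_lit 5, nat_lit 4, nat_lit 5, nat_lit 6, nat_lit 0, nat_lit 5]) (TL.leaf [nat_lit 24589, nat_lit 0, nat_lit 6, nat_lit 1, nat_lit 3, nat_lit 1, nat_lit 5, nat_lit 1, nat_lit 5, nat_lit 4, nat_lit 5, nat_lit 1, nat_lit 6, nat_lit 2, nat_lit 5, nat_lit 3, nat_lit 5, nat_lit 6]))) (TL.node (TL.node (TL.node (TL.leaf [nat_lit 10243, nat_lit 5, nat_lit 3, nat_lit 5, nat_lit 3, nat_lit 5, nat_lit 3, nat_lit 5, nat_lit 3, nat_lit 5, nat_lit 3]) (TL.leaf [nat_lit 22529, nat_lit 6, nat_lit 1, nat_lit 6, nat_lit 3, nat_lit 6, nat_lit 4, nat_lit 0, nat_lit 6, nat_lit 1, nat_lit 5, nat_lit 0, nat_lit 5, nat_lit 4, nat_lit 5])) (TL.leaf [nat_lit 12299, nat_lit 2, nat_lit 0, nat_lit 3, nat_lit 5, nat_lit 0, nat_lit 1, nat_lit 3, nat_lit 5])) (TL.node (TL.leaf [nat_lit 24579, nat_lit 1, nat_lit 5, nat_lit 3, nat_lit 5, nat_lit 6, nat_lit 0, nat_lit 6, nat_lit 1, nat_lit 3, nat_lit 1,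 nat_lit 5, nat_lit 1, nat_lit 5, nat_lit 4, nat_lit 5, nat_lit 1, nat_lit 6]) (TL.leaf [nat_lit 30731, nat_lit 6, nat_lit 4, nat_lit 0, nat_lit 6, nat_lit 5, nat_lit 2, nat_lit 6, nat_lit 1, nat_lit 4, nat_lit 5, nat_lit 2, nat_lit 5, nat_lit 6, nat_lit 1, nat_lit 5, nat_lit 6, nat_lit 1]))))))
def W_t3 : TL := (TL.node W_t1 W_t2)
def W_t4 : TL := (TL.node (TL.node (TL.node (TL.node (TL.node (TL.node (TL.leaf [nat_lit 2050, nat_lit 3, nat_lit 4, nat_lit 4]) (TL.leaf [nat_lit 16398, nat_lit 6, nat_lit 4, nat_lit 2, nat_lit 0, nat_lit 6, nat_lit 3, nat_lit 5, nat_lit 1, nat_lit 3, nat_lit 2, nat_lit 5])) (TL.leaf [nat_lit 24602, nat_lit 5, nat_lit 4, nat_lit 5, nat_lit 1, nat_lit 6, nat_lit 2, nat_lit 5, nat_lit 3, nat_lit 5, nat_lit 2, nat_lit 5, nat_lit 2, nat_lit 4, nat_lit 2, nat_lit 6, nat_lit 0, nat_lit 6])) (TL.node (TL.node (TL.leaf [nat_lit 10241, nat_lit 4, nat_lit 5, nat_lit 3, nat_lit 5, nat_lit 3,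 nat_lit 5, nat_lit 3, nat_lit 5, nat_lit 3, nat_lit 5]) (TL.leaf [nat_lit 20493, nat_lit 0, nat_lit 5, nat_lit 4, nat_lit 5, nat_lit 1, nat_lit 5, nat_lit 6, nat_lit 5, nat_lit 2, nat_lit 5, nat_lit 2, nat_lit 6])) (TL.leaf [nat_lit 20489, nat_lit 1, nat_lit 6, nat_lit 0, nat_lit 5, nat_lit 4, nat_lit 5, nat_lit 1, nat_lit 5, nat_lit 6, nat_lit 5, nat_lit 2, nat_lit 5]))) (TL.node (TL.node (TL.node (TL.leaf [nat_lit 6149, nat_lit 3, nat_lit 0, nat_lit 3, nat_lit 0]) (TL.leaf [nat_lit 26647, nat_lit 3, nat_lit 5, nat_lit 1, nat_lit 6, nat_lit 2, nat_lit 6, nat_lit 5, nat_lit 6, nat_lit 5, nat_lit 1, nat_lit 6, nat_lit 4, nat_lit 2, nat_lit 5])) (TL.leaf [nat_lit 16400, nat_lit 3, nat_lit 2, nat_lit 0, nat_lit 6, nat_lit 3, nat_lit 5, nat_lit 1, nat_lit 3, nat_lit 2, nat_lit 5, nat_lit 6])) (TL.node (TL.leaf [nat_lit 12289, nat_lit 5, nat_lit 0, nat_lit 1, nat_lit 3, nat_lit 5, nat_lit 1, nat_lit 0, nat_lit 3])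 (TL.leaf [nat_lit 30732, nat_lit 6, nat_lit 1, nat_lit 5, nat_lit 6, nat_lit 0, nat_lit 3, nat_lit 6, nat_lit 2, nat_lit 6, nat_lit 5, nat_lit 2, nat_lit 6, nat_lit 5, nat_lit 1, nat_lit 5, nat_lit 3, nat_lit 2])))) (TL.node (TL.node (TL.node (TL.node (TL.leaf [nat_lit 28688, nat_lit 3, nat_lit 6, nat_lit 4, nat_lit 6, nat_lit 1, nat_lit 3, nat_lit 1, nat_lit 6, nat_lit 3, nat_lit 6, nat_lit 1]) (TL.leaf [nat_lit 18450, nat_lit 0, nat_lit 5, nat_lit 0, nat_lit 6, nat_lit 5, nat_lit 3, nat_lit 5, nat_lit 4, nat_lit 5, nat_lit 1, nat_lit 4, nat_lit 6])) (TL.leaf [nat_lit 26650, nat_lit 2, nat_lit 6, nat_lit 2, nat_lit 5, nat_lit 3, nat_lit 5, nat_lit 1, nat_lit 3, nat_lit 6, nat_lit 2, nat_lit 5, nat_lit 6, nat_lit 5, nat_lit 6])) (TL.node (TL.leaf [nat_lit 14348, nat_lit 3, nat_lit 1, nat_lit 5, nat_lit 4, nat_lit 5, nat_lit 0, nat_lit 4, nat_lit 5, nat_lit 2, nat_lit 5]) (TL.leaf [nat_lit 26644, nat_lit 6, nat_lit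 5, nat_lit 6, nat_lit 1, nat_lit 6, nat_lit 2, nat_lit 5, nat_lit 3, nat_lit 5, nat_lit 1, nat_lit 3, nat_lit 6, nat_lit 2, nat_lit 5]))) (TL.node (TL.node (TL.node (TL.leaf [nat_lit 4097, nat_lit 2, nat_lit 0, nat_lit 2, nat_lit 0]) (TL.leaf [nat_lit 18447, nat_lit 5, nat_lit 3, nat_lit 5, nat_lit 4, nat_lit 5, nat_lit 6, nat_lit 0, nat_lit 5, nat_lit 0, nat_lit 6, nat_lit 3, nat_lit 2])) (TL.leaf [nat_lit 8193, nat_lit 0, nat_lit 1, nat_lit 4, nat_lit 1, nat_lit 4])) (TL.node (TL.leaf [nat_lit 28675, nat_lit 4, nat_lit 6, nat_lit 3, nat_lit 2, nat_lit 6, nat_lit 4, nat_lit 6, nat_lit 2, nat_lit 4, nat_lit 2, nat_lit 6]) (TL.leaf [nat_lit 22555, nat_lit 5, nat_lit 6, nat_lit 1, nat_lit 6, nat_lit 3, nat_lit 6, nat_lit 4, nat_lit 0, nat_lit 6, nat_lit 1, nat_lit 5, nat_lit 0, nat_lit 5, nat_lit 4]))))) (TL.node (TL.node (TL.node (TL.node (TL.node (TL.leaf [nat_lit 6151, nat_lit 0, nat_lit 3, nat_lit 0, nat_lit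 4]) (TL.leaf [nat_lit 32783, nat_lit 2, nat_lit 6, nat_lit 4, nat_lit 6, nat_lit 4, nat_lit 5, nat_lit 0, nat_lit 5, nat_lit 3, nat_lit 6, nat_lit 1, nat_lit 5, nat_lit 6, nat_lit 4, nat_lit 5, nat_lit 6])) (TL.leaf [nat_lit 16395, nat_lit 5, nat_lit 1, nat_lit 4, nat_lit 2, nat_lit 5, nat_lit 4, nat_lit 6, nat_lit 0, nat_lit 1, nat_lit 3, nat_lit 6])) (TL.node (TL.leaf [nat_lit 18443, nat_lit 4, nat_lit 2, nat_lit 5, nat_lit 3, nat_lit 5, nat_lit 4, nat_lit 5, nat_lit 6, nat_lit 0, nat_lit 5, nat_lit 0, nat_lit 6]) (TL.leaf [nat_lit 28683, nat_lit 6, nat_lit 4, nat_lit 6, nat_lit 2, nat_lit 4, nat_lit 2, nat_lit 6, nat_lit 3, nat_lit 6, nat_lit 3, nat_lit 2]))) (TL.node (TL.node (TL.node (TL.leaf [nat_lit 8196, nat_lit 1, nat_lit 3, nat_lit 2, nat_lit 0, nat_lit 3]) (TL.leaf [nat_lit 14339, nat_lit 4, nat_lit 5, nat_lit 2, nat_lit 3, nat_lit 5, nat_lit 1, nat_lit 5, nat_lit 3, nat_lit 0, nat_lit 5])) (TL.leaf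 [nat_lit 24585, nat_lit 5, nat_lit 6, nat_lit 0, nat_lit 6, nat_lit 1, nat_lit 3, nat_lit 1, nat_lit 5, nat_lit 1, nat_lit 5, nat_lit 4, nat_lit 5, nat_lit 1, nat_lit 6, nat_lit 2, nat_lit 5, nat_lit 3])) (TL.node (TL.leaf [nat_lit 20487, nat_lit 5, nat_lit 2, nat_lit 6, nat_lit 0, nat_lit 5, nat_lit 4, nat_lit 5, nat_lit 1, nat_lit 5, nat_lit 6, nat_lit 5, nat_lit 2]) (TL.leaf [nat_lit 32797, nat_lit 5, nat_lit 3, nat_lit 6, nat_lit 1, nat_lit 5, nat_lit 6, nat_lit 4, nat_lit 5, nat_lit 6, nat_lit 1, nat_lit 6, nat_lit 4, nat_lit 6, nat_lit 4, nat_lit 5, nat_lit 0])))) (TL.node (TL.node (TL.node (TL.node (TL.leaf [nat_lit 24604, nat_lit 3, nat_lit 5, nat_lit 1, nat_lit 6, nat_lit 2, nat_lit 5, nat_lit 3, nat_lit 5, nat_lit 2, nat_lit 5, nat_lit 2, nat_lit 4, nat_lit 2, nat_lit 6, nat_lit 0, nat_lit 6, nat_lit 5]) (TL.leaf [nat_lit 26629, nat_lit 6, nat_lit 5, nat_lit 6, nat_lit 5, nat_lit 1, nat_lit 6, nat_lit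 4, nat_lit 2, nat_lit 5, nat_lit 4, nat_lit 5, nat_lit 1, nat_lit 6, nat_lit 2])) (TL.leaf [nat_lit 18435, nat_lit 0, nat_lit 5, nat_lit 0, nat_lit 6, nat_lit 3, nat_lit 2, nat_lit 5, nat_lit 3, nat_lit 5, nat_lit 4, nat_lit 5, nat_lit 6])) (TL.node (TL.leaf [nat_lit 12297, nat_lit 5, nat_lit 1, nat_lit 0, nat_lit 3, nat_lit 5, nat_lit 0, nat_lit 1, nat_lit 3]) (TL.leaf [nat_lit 32792, nat_lit 4, nat_lit 6, nat_lit 5, nat_lit 2, nat_lit 6, nat_lit 4, nat_lit 5, nat_lit 0, nat_lit 5, nat_lit 3, nat_lit 6, nat_lit 3, nat_lit 6, nat_lit 2, nat_lit 6, nat_lit 5]))) (TL.node (TL.node (TL.node (TL.leaf [nat_lit 12303, nat_lit 4, nat_lit 5, nat_lit 0, nat_lit 1, nat_lit 3, nat_lit 5, nat_lit 1, nat_lit 0]) (TL.leaf [nat_lit 22548, nat_lit 6, nat_lit 4, nat_lit 6, nat_lit 2, nat_lit 6, nat_lit 5, nat_lit 3, nat_lit 5, nat_lit 0, nat_lit 5, nat_lit 2, nat_lit 6, nat_lit 0, nat_lit 3])) (TL.leaf [nat_lit 24605, nat_lit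 3, nat_lit 5, nat_lit 1, nat_lit 6, nat_lit 2, nat_lit 5, nat_lit 3, nat_lit 5, nat_lit 6, nat_lit 0, nat_lit 6, nat_lit 1, nat_lit 3, nat_lit 1, nat_lit 5, nat_lit 1, nat_lit 5])) (TL.node (TL.leaf [nat_lit 22531, nat_lit 2, nat_lit 6, nat_lit 3, nat_lit 6, nat_lit 4, nat_lit 0, nat_lit 6, nat_lit 1, nat_lit 5, nat_lit 0, nat_lit 5, nat_lit 4, nat_lit 5, nat_lit 6]) (TL.leaf [nat_lit 22554, nat_lit 1, nat_lit 6, nat_lit 5, nat_lit 3, nat_lit 5, nat_lit 0, nat_lit 5, nat_lit 2, nat_lit 6, nat_lit 0, nat_lit 3, nat_lit 6, nat_lit 4, nat_lit 6]))))))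
def W_t5 : TL := (TL.node (TL.node (TL.node (TL.node (TL.node (TL.node (TL.leaf [nat_lit 6147, nat_lit 0, nat_lit 4, nat_lit 0, nat_lit 3]) (TL.leaf [nat_lit 18434, nat_lit 5, nat_lit 3, nat_lit 5, nat_lit 4, nat_lit 5, nat_lit 1, nat_lit 4, nat_lit 6, nat_lit 0, nat_lit 5, nat_lit 0, nat_lit 6])) (TL.leaf [nat_lit 14338, nat_lit 0, nat_lit 4, nat_lit 5, nat_lit 2, nat_lit 5, nat_lit 4, nat_lit 1, nat_lit 5, nat_lit 4, nat_lit 5])) (TL.node (TL.leaf [nat_lit 16387, nat_lit 0, nat_lit 1, nat_lit 3, nat_lit 6, nat_lit 5, nat_lit 1, nat_lit 4, nat_lit 2, nat_lit 5, nat_lit 4, nat_lit 6]) (TL.leaf [nat_lit 8201, nat_lit 3, nat_lit 0, nat_lit 1, nat_lit 4, nat_lit 1]))) (TL.node (TL.node (TL.node (TL.leaf [nat_lit 16389, nat_lit 2, nat_lit 3, nat_lit 6, nat_lit 5, nat_lit 1, nat_lit 4, nat_lit 2, nat_lit 5, nat_lit 4, nat_lit 6, nat_lit 0]) (TL.leaf [nat_lit 16396, nat_lit 5, nat_lit 6, nat_lit 4, nat_lit 2, nat_lit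 0, nat_lit 6, nat_lit 3, nat_lit 5, nat_lit 1, nat_lit 3, nat_lit 2])) (TL.leaf [nat_lit 20488, nat_lit 4, nat_lit 5, nat_lit 0, nat_lit 6, nat_lit 1, nat_lit 5, nat_lit 1, nat_lit 5, nat_lit 6, nat_lit 5, nat_lit 2, nat_lit 5])) (TL.node (TL.leaf [nat_lit 16391, nat_lit 4, nat_lit 6, nat_lit 5, nat_lit 1, nat_lit 4, nat_lit 2, nat_lit 5, nat_lit 4, nat_lit 6, nat_lit 0, nat_lit 1]) (TL.leaf [nat_lit 16401, nat_lit 1, nat_lit 5, nat_lit 4, nat_lit 6, nat_lit 0, nat_lit 1, nat_lit 3, nat_lit 6, nat_lit 5, nat_lit 1, nat_lit 4])))) (TL.node (TL.node (TL.node (TL.node (TL.leaf [nat_lit 26646, nat_lit 5, nat_lit 6, nat_lit 1, nat_lit 6, nat_lit 2, nat_lit 5, nat_lit 3, nat_lit 5, nat_lit 1, nat_lit 3, nat_lit 6, nat_lit 2, nat_lit 5, nat_lit 6]) (TL.leaf [nat_lit 32781, nat_lit 6, nat_lit 1, nat_lit 6, nat_lit 4, nat_lit 6, nat_lit 4, nat_lit 5, nat_lit 0, nat_lit 5, nat_lit 3, nat_lit 6, nat_lit 1, nat_lit 5, nat_lit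 6, nat_lit 4, nat_lit 5])) (TL.leaf [nat_lit 24591, nat_lit 6, nat_lit 1, nat_lit 3, nat_lit 1, nat_lit 5, nat_lit 1, nat_lit 5, nat_lit 4, nat_lit 5, nat_lit 1, nat_lit 6, nat_lit 2, nat_lit 5, nat_lit 3, nat_lit 5, nat_lit 6, nat_lit 0])) (TL.node (TL.leaf [nat_lit 8200, nat_lit 1, nat_lit 0, nat_lit 3, nat_lit 2, nat_lit 3]) (TL.leaf [nat_lit 16403, nat_lit 5, nat_lit 4, nat_lit 6, nat_lit 0, nat_lit 1, nat_lit 3, nat_lit 6, nat_lit 5, nat_lit 1, nat_lit 4, nat_lit 2]))) (TL.node (TL.node (TL.node (TL.leaf [nat_lit 26627, nat_lit 1, nat_lit 6, nat_lit 5, nat_lit 6, nat_lit 5, nat_lit 1, nat_lit 6, nat_lit 4, nat_lit 2, nat_lit 5, nat_lit 4, nat_lit 5, nat_lit 1, nat_lit 6]) (TL.leaf [nat_lit 18441, nat_lit 6, nat_lit 3, nat_lit 2, nat_lit 5, nat_lit 3, nat_lit 5, nat_lit 4, nat_lit 5, nat_lit 6, nat_lit 0, nat_lit 5, nat_lit 0])) (TL.leaf [nat_lit 22532, nat_lit 4, nat_lit 5, nat_lit 0, nat_lit 5, nat_lit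 2, nat_lit 6, nat_lit 0, nat_lit 3, nat_lit 6, nat_lit 4, nat_lit 6, nat_lit 2, nat_lit 6, nat_lit 5])) (TL.node (TL.leaf [nat_lit 16385, nat_lit 6, nat_lit 0, nat_lit 1, nat_lit 3, nat_lit 6, nat_lit 5, nat_lit 1, nat_lit 4, nat_lit 2, nat_lit 5, nat_lit 4]) (TL.leaf [nat_lit 8194, nat_lit 4, nat_lit 2, nat_lit 3, nat_lit 2, nat_lit 0]))))) (TL.node (TL.node (TL.node (TL.node (TL.node (TL.leaf [nat_lit 8198, nat_lit 4, nat_lit 2, nat_lit 0, nat_lit 3, nat_lit 2]) (TL.leaf [nat_lit 10242, nat_lit 5, nat_lit 4, nat_lit 5, nat_lit 4, nat_lit 5, nat_lit 4, nat_lit 5, nat_lit 4, nat_lit 5, nat_lit 4])) (TL.leaf [nat_lit 28690, nat_lit 6, nat_lit 4, nat_lit 6, nat_lit 1, nat_lit 3, nat_lit 1, nat_lit 6, nat_lit 3, nat_lit 6, nat_lit 1, nat_lit 4])) (TL.node (TL.leaf [nat_lit 12293, nat_lit 2, nat_lit 3, nat_lit 5, nat_lit 1, nat_lit 0, nat_lit 3, nat_lit 5, nat_lit 0]) (TL.leaf [nat_lit 16405, nat_lit 3, nat_lit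 6, nat_lit 0, nat_lit 1, nat_lit 3, nat_lit 6, nat_lit 5, nat_lit 1, nat_lit 4, nat_lit 2, nat_lit 5]))) (TL.node (TL.node (TL.node (TL.leaf [nat_lit 20501, nat_lit 2, nat_lit 5, nat_lit 6, nat_lit 5, nat_lit 2, nat_lit 5, nat_lit 2, nat_lit 6, nat_lit 0, nat_lit 5, nat_lit 4, nat_lit 5]) (TL.leaf [nat_lit 28681, nat_lit 1, nat_lit 6, nat_lit 4, nat_lit 6, nat_lit 2, nat_lit 4, nat_lit 2, nat_lit 6, nat_lit 3, nat_lit 6, nat_lit 3])) (TL.leaf [nat_lit 28676, nat_lit 4, nat_lit 1, nat_lit 6, nat_lit 3, nat_lit 6, nat_lit 1, nat_lit 4, nat_lit 6, nat_lit 4, nat_lit 6, nat_lit 1])) (TL.node (TL.leaf [nat_lit 12295, nat_lit 4, nat_lit 5, nat_lit 1, nat_lit 0, nat_lit 3, nat_lit 5, nat_lit 0, nat_lit 1]) (TL.leaf [nat_lit 16394, nat_lit 1, nat_lit 5, nat_lit 6, nat_lit 4, nat_lit 2, nat_lit 0, nat_lit 6, nat_lit 3, nat_lit 5, nat_lit 1, nat_lit 3])))) (TL.node (TL.node (TL.node (TL.node (TL.leaf [nat_lit 8197, nat_lit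 3, nat_lit 1, nat_lit 4, nat_lit 0, nat_lit 1]) (TL.leaf [nat_lit 30730, nat_lit 1, nat_lit 6, nat_lit 1, nat_lit 5, nat_lit 6, nat_lit 0, nat_lit 3, nat_lit 6, nat_lit 2, nat_lit 6, nat_lit 5, nat_lit 2, nat_lit 6, nat_lit 5, nat_lit 1, nat_lit 5, nat_lit 3])) (TL.leaf [nat_lit 22533, nat_lit 6, nat_lit 3, nat_lit 6, nat_lit 4, nat_lit 0, nat_lit 6, nat_lit 1, nat_lit 5, nat_lit 0, nat_lit 5, nat_lit 4, nat_lit 5, nat_lit 6, nat_lit 1])) (TL.node (TL.leaf [nat_lit 14342, nat_lit 5, nat_lit 2, nat_lit 5, nat_lit 4, nat_lit 1, nat_lit 5, nat_lit 4, nat_lit 5, nat_lit 0, nat_lit 4]) (TL.leaf [nat_lit 14350, nat_lit 2, nat_lit 5, nat_lit 4, nat_lit 5, nat_lit 0, nat_lit 4, nat_lit 5, nat_lit 2, nat_lit 5, nat_lit 4]))) (TL.node (TL.node (TL.node (TL.leaf [nat_lit 28685, nat_lit 3, nat_lit 6, nat_lit 2, nat_lit 4, nat_lit 2, nat_lit 6, nat_lit 3, nat_lit 6, nat_lit 3, nat_lit 2, nat_lit 6]) (TL.leaf [nat_lit 10244,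 nat_lit 3, nat_lit 5, nat_lit 4, nat_lit 5, nat_lit 4, nat_lit 5, nat_lit 4, nat_lit 5, nat_lit 4, nat_lit 5])) (TL.leaf [nat_lit 14352, nat_lit 5, nat_lit 4, nat_lit 5, nat_lit 0, nat_lit 4, nat_lit 5, nat_lit 2, nat_lit 5, nat_lit 4, nat_lit 1])) (TL.node (TL.leaf [nat_lit 12298, nat_lit 3, nat_lit 2, nat_lit 0, nat_lit 5, nat_lit 4, nat_lit 0, nat_lit 2, nat_lit 5]) (TL.leaf [nat_lit 32775, nat_lit 6, nat_lit 4, nat_lit 5, nat_lit 6, nat_lit 1, nat_lit 6, nat_lit 4, nat_lit 6, nat_lit 4, nat_lit 5, nat_lit 0, nat_lit 5, nat_lit 3, nat_lit 6, nat_lit 1, nat_lit 5]))))))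
def W_t6 : TL := (TL.node W_t4 W_t5)
def W_t : TL := (TL.node W_t3 W_t6)
noncomputable def W (i : ℕ) : List ℕ := TL.get W_t i
def WA_t : TL := (TL.leaf [nat_lit 0])
noncomputable def WA (i : ℕ) : List ℕ := TL.get WA_t i
noncomputable def row : ℕ → ℕ := hRow (nat_lit 314) (nat_lit 7) (nat_lit 6) (nat_lit 512) (nat_lit 256) (nat_lit 131072) (nat_lit 8192) (nat_lit 8192) (nat_lit 0) E X Pa inv (wfun (nat_lit 162) W_t)
noncomputable def aux : ℕ → ℕ := hAux (nat_lit 315) (nat_lit 7) (nat_lit 512) (nat_lit 131072) (nat_lit 8192) (nat_lit 2) (nat_lit 2) (nat_lit 8192) (nat_lit 0) E X J Pa inv WA_t.get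
theorem r0 : Nat.beq (rng row (nat_lit 0) (nat_lit 315)) (nat_lit 0) = true := by decide +kernel
theorem rows : ∀ i < 315, row i = 0 := by
  have h := zero_lt_zero row
  have h := zero_lt_add (a := (nat_lit 0)) (n := (nat_lit 315)) (b := (nat_lit 315)) h r0 rfl
  exact h
theorem auxs : ∀ i < 0, aux i = 0 := by
  have h := zero_lt_zero aux
  exact h
theorem closes.{u} : ClosesT.{u} inv rels 7 6 315 T :=
  hc_closes (N1 := (nat_lit 314)) rfl T_eq (by decide +kernel) rows auxs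
theorem T_inv : ∀ c < 315, ∀ j < 7, T j c < 315 ∧ T (inv j) (T j c) = c := 
  hc_inv (inv := inv) (N1 := (nat_lit 314)) rfl T_eq rows
end L3

namespace L4
def t0x : TN := (TN.leaf (nat_lit 0xb802df9805cc101aff6017edc02e2080cb675cccda1198a81f2f480593708cada017210020ba0264b200bad4014b8c131f900555408c6e401400405ddb005e320077cc09880405c8080b822007ebc11848801da20035ea04c0bc6b807422ffd046733edbede012604059bb805b2035bcea6b8ac0028d2803a3135c8d60158c8f73d61ee53694cd8202c5b4d73f6005a380088ec7b7ab0029f3004fdd0085d6396e9c023590055aa0087501196a002a152e58a600798800b508033b40041810157e400ca9402b30003ea4dbadd4097478022588259b108c74c01329c0298a004cd60064ce1163ac2ed75002fc1014f4c0f53a42f20f803d6a08a4d2011c0405337825de200554401036c01b91002e5e23a0e2178c9662d4c804c1d239eae093c5cd676b85ce9b9f9c9e0093ac01ef40036c10143c4011b4c12a52845518006ab07b3e100110200210200cd40009278019ce8033c1014132009054024b703df143593880081100100c802553004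6c00118a52e3f2002ca50072d0114884d66930259cc008bbe09202cd6322001e66007f080077a80220e83d5f704b6d27b130404e7484595e006fc60078701ed20809bdf004dbc00d238d60f39ed78307c982026c841e88d00378d00788847008001f12e9456108c28202688821f6f84568e00753e7affa8f66e080985e08a51e00749422c27801c4c0480880060c4231210062e104c19a00b87c21d66823e4d0051487b7674018020017240b8e8401870404ace00191c005604018676121ac8440980035b46b439cd66ca803318005b3d62d80c1304d00239707988202517000dce9ac21c9868b600a6702e54e83cac200bda86ada78015388257150ba8b8006704049890015c200b82400554c009a90015120029b928e7a42e9cd002f59045f2a00ad3000cab80286107a11808ec100092b84364304b02c00b3541d6919dc78101222600a40802bab002594045e3608e144009f09ad15d986588003d100078d4db4110021a40eb00404706023a56845d1c00504c010a100535400430202357812120808d0200a3b00052500084a9aab983d91020232381270f9acb0b0047b00928281122c83b592049088003359c516a00104e001886092f08026a9ba2752084f86172e0404541004a430792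0617230404509000b010113a8006248005cf801d83048b44090c0c1e28f389e8101121c08f408021e9001c0e0879226a72080214d8234cc00330401045c21ba600178400110400fc6c2d905821b4b045db60ee23400b49b69f02007b0608f038004659a9a81010d8608e630008c60398cc001b82021a44118c10038d13562220ec2442d82b822602006a1a16a040f55608085d208618400c74400300808543045ba4e23f2c003a59d96c1010a0400b1401d4a99aa5d308450202124c00904000ec30854060ea71c707c0808445000e0400a32c2cb22800642004e04009a0c1118100250d3d4494002f2420608ae1ec1010722107e2c005210020ca351584007f0800fa20003440006040075352cbe1821a4b000f02020918002c503884a08238808390800ba1001604041b20c04b08009c28207c200250400451000141001002001d08000710000c1000b43071306162504040618204c200100a00050c202018383c41c0402020208001610001030400820200))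
def t1x : TN := (TN.leaf (nat_lit 0xc4033f980676e00b7706f9cc80329296e6a77accf6018d04063f50059f902cbd80170040609e8064b500c8ea018eac03039803fab00a4e2013fc40281b8ee2b30088ce01887402bb496e1a700bb6800fb5c02a5980573000a0c8013d9801d7b3d5fbc00be8202cde002d96015f2037c24c01788801db2803f32efbad80163b802be080b14302b972f59bbb96dfb0067b8006fea0126ac029b816e2c1015f5c13735802c190044aa37b2ce011a9802bd53d58a537b0d06f96a4aed1504dd2c00ace400f5a801c908037ab2dc3c4015004054c18155e5008ab46f540405438005198006acc010604053c18153e9005fca00ba6672ab00035fb02cc54011698b68f784e0e3005c8202928c0158080a43509c7c6576abc01dd6804ddd006c44010774defea00345d009ca20138b0025f18164ec0089b0f54c5026ef3004c810142a800f7b40a7ca003da4cf96be00c00405041814adc0067b43b454c024f6a85ed4379282027f0c0a48c8025110048d06f48dcdf2b2802d25007a080079900aa71802d65008c88131c8cde2f004c82749a5820275a8021ee003428008682027368b66ac8043b137c4ac00e56c017ae815a5f005e3c13098002013015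6010136423b367c0a58f8036520080c0133c8001d4100641100744b8b858542f2e1bc08400328812f948011090020dd09c14600787d25e699bbc8f00789a0066dc26da10063210999b200986142765002ec800699e0068580a886002896003a3800af5800be0809544002bd000e08caddec002d9c00320812e1800a0a98030dd1d7d44a180680194b802196004fb400c71800b870026d20045e2136674019ce284a6a37bd02024d0c0998f1bd2950298b600516c00cea8ed0c200b8a66edd7c015208092c302612a13030802d6d96c2990037be3b088009fec0ecd2009941600522025d8f9bd68309b22a00b10404881812ce42d8f020243a542b6b802b9509693256c6440134b81509e1d6d166ea80404741005581011c0604a5440960e001ba2cb8d9a00580802a21005381011aae04d650255ab001225094cb012b770024450025810119263a97340126a15b9cc00462a56aa100066c0127440947a21321080274c801f9000448613306c0a20a16a7131d64a6006108025c1004a810114060481080246b8010082d3eac005a4000610814503098c04011d0404481811ddf2d3d06130c66850eb16b8d68338aa0056080216d84b98400113d72db5809c48801a8809780400fd70b5a85049a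43097c353ac404043a18118d1001512126d3c74e461b978c000f0612e92c009c48011c700281600370c25b89bd08d47a358202180c08a8480125900260a001a340068480114200658400c80801827169283095c306eab5808f850005c71d2d8400b23d4146881254e00162e6e8a50009e48129c9001e8202110c087838e8f8b001c8400a408014020004d6494726a03f0c251a880108c001896002d04041c1810bd02b3d988612240056100210a37148400801cac4e08082c302130400760800e0384980101048e5a5d1c246c49b880200310e001c20084210016440005040053200028204864d490a84004614243e1001042001d906e100404081000b81010186040d08004a1848586340d8c040f18000e08080830203083a0808001810001440000820200))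
def t2x : TN := (TN.leaf (nat_lit 0xc0a33fa9cdbb246cf72019ce802e130066a800ccf80149e8032b4805838008fe2619b90026de02e4b428c88202fed80283a13643a39cc0202eec402d5c0062b20086cc0b88b002b350061a6007e420179c0028cf003d6a05c7c600d8780277b805fbbc8beda017ab8024d5803362007dca6178540267313617300bad6015ebc02d02005c410162d68d94bc02df69b67780077ee6d7b04057f200501e008554015fa49b2d900342b00b28800b5ac9ae958058a600b0aa0b67b416e72d4d8dc36c3e40b82a8015f0002dab36aece01061002ac080a99a00a5b60154940236b02e0c1014fc2515810029c080a7aa26b5b20134a0022af8032aa73c6d201209c028f782d49b00942e00e758018cc002aafe8c0e0e78bc09b197004be326c04201006401d6080a2dca39ca00b38b11a7d100411b0087b200ba8801db2944c960064880088acda6e080a0e50096c00103100254080a09d00674200b948a24fa145b1500928801230404fed9ca5d2004642011608032f2802c41013c0a01188c0143302d924288c88007990022f4935224d9aac4007aacda6b882d9b226c4b80087a51a26c02c3a7da888800740404dee002f9f00844000bc841679282d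421006d840193580180e803e910580bf0b0784017791b63810134488d76cce708f003645007c0800654c16609934bb105ae484d1d8001e6a003c8e05789200699001bf773cfe105bb9200b794e6fefa33fc4002e204cfd540124e001b95058652e75b5c00e4b801ac5006e4e60e0dc16db013569400620800577c00d8f802a5e2681394f3d7c9a94c00271726a8ba00671c15d2b002b53269d360b126dce52e1833c200be0800cb04049ac82b5d4004282024c64d9a8d002b0200b936006448a1b420030410125bc512ca3769a1005a5a2685bc0b092415d5268532228a2880049640130b9437a2c88d486d1e1001640809114825a2400a36ea5c8b142b95004dc45143640090b00241e36619800a828007c10055c40052020238400086582b98200a982023754a1aa10053d900472a00863415a48232ae6004cb00aec500128482a5920021308d223015261005110059084014214011ab800d440019960a9144c1a2c00100f4644a20af76800e6b233582009882022a44d9ec1004ac40040020228080248c132289003eae004744005b0001d43058e440af41000ec0808902008a2a0ae508022080017d7003882022360157ad82a88a00300401055400aa8141a8b00331cbce869cd8e602bc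03057cb64cdd1000c40808752264210002254d9c6680178800100a0ad320008aac29f01010d184ca00c15c2a131c020071080053040430502ae1a26640c4c594dcc7e51316c20066312c51080184780128805292a6c9a20a0b4080850836270400b30801608348c8101092c0a7e5000684000e88281e88003b04042210029ca051c8400a528e4b040007c2004e98504f0c151e100254b28189e607b10005c080838a36181a4c4120a056834184b001484008120004e200094101058400775000ac1829b49000d94001e18002659b174200318c0a1c1c001220f9405000b04005424988c200028e000a8e60170c146c6800b02001e1200101c00101000bc4000602020308004c182864200108a000414a00e2000141010104000f08001a10001830500840000))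
def t3x : TN := (TN.leaf (nat_lit 0x406d1a3567ae03cfea0194e802fd58056e600ccca013cc4028390061b962cbda0171e802da7806481017f6c3790ac03038805d4f0083e40178445b16b804fe700823001885c5b0f80046a700882801805802611003b6a008fa8013d680275a805ca500beda0174b4029f800559f006c68016a10019540036f0008ae600d06402e7b4666ee0ece2e2d707402dd38057ec0087e801669c020d88de33100a3582d9d5c02c99002fe900865c00e0a4029b4805898005a200160bcfedf48b5ee016cd66d569a85abb10038a900578202a69b5ec770053a703c8a201349c02a6d002f65006382029ead8abcd315e9e16abb2014c6402977004deb0ecc4e0118a0023970757010149480142040520d80387562cac81d8a7d2281785608f0ec250c549040516c00345a009caa008cb00214080a1dc62bb1e00a13c017d18046c400972800d7482aa4a0035280eac8202828801cee00372003a2b4532a040502c81d6130092220080400e4ed3548910090cc2d479c2b1f1003ce61b8ec215208001741006581013bca009928022848045b00ec71000769c021af81d4010139ca00dfcd8b271801e21007ea200f46c2aeeeb1529f007c02026e34020128033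6303889a00fc740172c8030840036a41d8d8401452d955670e89e01d89880ef2080990d005c1c00e95000de98027140a7bd01d6586f1669001c0b00331e15013800d88003bae0a9f08005c7c0e762053b1e0a84b8073658018c7853e550072ac00e44c59c70002a6262a25a156708030a0809503036f2ac528998a6a08094c3036d4164fb0c2b06c0dd45500422807311000a420534c200bfe6077c6c0e86a8030260ab5a600c1740df4c8542c101263a2cf66859ad0854ad60e6282024b0c0d88b801ad7005b2a00570802d870022190a97880049102979181cc9000561a14e62c00cab81b30d005aac00b28c0e3c100584d1658a800b07c3a5a08090950a5bb61503640140c81cb0200ad14003b30014ebc0c99100252600a4440d4a50026c200aa1e004e5c013aec644950041b452c8840dfea80188200a43a0708040464181a5ca004aa806ae100066f054a440a49b318cf4c2a70d01b248004690148f7589d69801f54001686153368fdd00808a83034326005145a93ebbeaa8e1b918401253c58fe880105100161400374000f7101c646003cc00074806cf410045c6163a86150e87060a08088c3033920005f0c39ead85260d0a7818006808020408088480034a27eef4c00c2480181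40a56b636cb30008c6801652001a8614f10801e4500078e03350614ea04043418196cd164d1c066344299c9339581010c0400dd0801b21853482006a8202170c0ca0bb12ad2032ab1328e08018668b28c30a5d8202140c0c9060b160a000e9800443c002a905250f0013982c4050008a0808443031f12003c2058741002a08000b1a90432400685000d900e339e7e7c0c2922100258101070606314989122900b87291784008a04041a100214900131c00280800fc380030603158a00240800e2280088c162e8a2c2010001440006d3161f88141f0800bc1001687000ca01c4d08009e40004cc3f1c0400470c28725800482001e8e000524001e1000c041b12840029145816185070400048202020c0c103000185160204001010000610001c40000820200))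
def t4x : TN := (TN.leaf (nat_lit 0xbc033ba8067ad00b45e0171dc02e5080576551ccd80149e8032a080c6b600a0e81b9cd0021e706e4a800aaee0190a0023f8804553008064016a4803172805031007e2e1b8860030f8966581016fa0013d1001af8004faa06c7a61b840405a3ca8e6e40dbee800d0a802bcd8053a3007de29b8c700216e804d700dc758197c601ae7a28dfac0cca300170c002bee20dbf90cc98202bf9c019b998de3400ae04019fb801c19965b29007a2c0d679c02af428d88101591e0d609836dd60053eb00adde0146a91334080aa690096b401267c029b7965ea6007f0202a19832a69804bd9006b400112b112f768355a8dfb1b0a34c603696f0042a9009e0202999c02418065a610094c600e170019f19651300ccbc0013f5837157803b530dc0481b988001d6c965fd90d9ca8008fb4b294e803a27006da059541001112002e95006a2a0d8368017a1864c600057b400aa88018cd804a1f00492c00dc440246c00298101402459253c0102d8048900690c4011ca437032002ce7008eceb5478b3a657a261a3003d4c59480404ec40345af0dba925917a001faf0027a40082cc5985ac36da2001d260d89d01b656801955a24ddf0074bc009838371b3035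ae20039cc1b897001580809ad00078181b07880136100646041869889048401b0f0032d000733c0d095401eaf0032040037a00d0c84363c08097c400301c006d4800d0786bba106c10a00ea780116200170d067c360087841a567002e140672aa1ee45001c7096569a06a15a0d64931e202003741012a36592a9cb2ec20036410129bc1b794c1a60d8031c10128a6892e1401a420014974d9d641b7468012090015e406833000b67000c81835ddb004736009c9136a2abab9d700628800c3040496c1640920c66280ccec41acc7034cd906a90a00bb100092fa0c6dc0681980cf958015ab1c304c065aae59618801e6a862d0e0058a618b0a036b2a80251500329ea2b960009cc00209f0c7102023a2c314e10056120051a418a43800950063fce0d9a3058ab48010610054162c4fa488f62419447001664068c38006e10012c0808c89064aa6004214012210051440019840143240118c8013070646a80d380802760808b1300179a0cbe08026c200214101152858d551113a1004b020093a019244000fe08089d22c452000343d44f70801dc5063cc40d0e0802323864507003abf70780802222001c410111a258f24c19ee100420306809a82ef5969847801747063496826c44006a5033c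4a065b8400fa3c00b0a2226920d33900c663d34e008086cd0010860cec1000b4080868c53311a0046503580980159300268400de0801b418334d2654208004f04042e7222811000c0400c90801888062943065e08004704042858618d3441f961a443800701002b902c3f1a004050003a2000f41010890183c24b1504800ec400099a00152508f84830d910d309062370c192610025c4001802020e20005a3000b932c44a0b47d1c004a100218101061a64283934824160a450006881a240800e4203088200350c00201400384961789382288000a1cc83c10016c6060c8400550800a03830e4e2c218400481c182c5190482001f02020420301e1000c4200158c182618001618307c30f0488000704040428601862c080c00050c340610002030600840000))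
def t5x : TN := (TN.leaf (nat_lit 0xe002dc080d9fb00cb6001850406bbb005f010191ee0141b40291d59e7410183820306a80297959e3360096f0015bb0028f9005c7500c0e60192c401efc31bd7a00743f66f0cc022b9005bef63ce66010ac001dda005734f1c6e0ab7794028a080b439b38f6a799ac13ef6080b32600980202cac40300080b27100885a0151bfaae77004471f0c75a0136c6570dbb1e7f900a9d6012eb401ba080afa400760202b508033d98030aa008ccea964b002b4080aca763b0ca9f17a001e8080ac0200cde6c782dd8f215ab58ea00abd60102a6feb378054010152d00131e0f2db7804fec3cba5dd756ac01c95803159006202029da4f326080a6c1014cd87997acf31e080a4e463bfc40127780249100373663cc02028fbaeea4080a36200514e0116900256e80385c559cc400bb04051165ddc260061d600fda4021728036e763aa4a7d798c01f1531db353cc8c001258cfa770804a60ae9502028184f2895002a5f3c963ac7430803320809f9d4f74c401180404f3d005f67638ecba7001801900809de963b2c387209802c1327cf3295c3ca00e5a401ece80306d3cb961d97561561f2004320004747990ea37a67931e121005e4800f108032a1006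5220063c800fa740181549d61f0056cc011c0404d20809a2abb9a4600850404cb1dfc11f005bc5892fc11717431c4f900c54fb95f9669e6e0019234f844001888c013979e60c1012e4679690404b6e80199e0090f279890404b2e8034e43c8a55c94f7c01aaa0028dc529d4baa750404a8d00156c4fb5c27942933664a1f369300520202529239a4080945e4f71c2006c7295cd28035c1012784017e04049cd8029c1012684017a7400bc1005e0200bb0a491b870a0aa001feae0a730ab4d953e6b91e599caa89392b030404941005a810124c0c709858e70c802bc10123bd5e6d798df24801c8200b40202449b456210058a7005984015e626974b0025de3c8082023d0404780808ee9dc932ac64669159c0808e0200aaa4c6d94cf1c50b34f55002e9e005804046c0808d4200a644ccef080294b000fc200a482023355155cb801f546c4ab4008a08028c98014168f30280063080280fb34342009f30006f4000c4cc9a5010115840137040454bc59c22bb7e3600733d55060808a02009426003a4d558c10048967c4b1e003e04044c7801d02008f8202240802347881da600701cb07a6a910841d2d950033b000865e3918080889f005c4174d40404429000e42007f8400fe50f8e2e31ba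82007db6c6f24e01207ab22c1010e2e0091040436e5332d456508400ed0801d6600114200739c9ea050009008086193c6f0400df49dc401003602006b24cc920801a210033c2006682021604042a1002fc2005ea6e457080172b002a0b3e2d0400b4040426080848e54209c0029553d3472c9f0200560400ab08015493820113c350400a604042010027c2004f02020f0801309000bd000168c002545b0647290b8f451882020d08011210021cd45200400820404161001ec521180400780404141001b820035a60053100012600064101040400610800be08081cb3c0f04005604040c100130200258202050800861001081010204003708006808080c2001606200c08004e10008c3130f84001d08003410005c2000a04001108001c08080420001020200))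
def t6x : TN := (TN.leaf (nat_lit 0xf00323d2766fa00c802035eec033d600562700c3820321ec026144965b700bbe6014fd402ae080c07b6bcff3e99dc80270080bd8101786c0178c802d4080ba8101738202e699033380055b800b38202d79001f7480520101698202d270020d8005c810166e60131e402e75c95e8101656bdd8cda4b2b4495d8101640202c7e0cef77c35fad00915a00fe040588080b0c1015fec00de9c02758b762f5007c4a0155de4b0a080ad010159de0161040565380396e4eb23000fc040562100672c00950202ad040554f8036410153569d9ad24b277b5e1a46fb4560119b38aa78804fa90067ce011ac93b295002b1c00884e011d0405397804dea007cd0d782a401796804be7006b4a010f80025d50037c10147c600ec04051b82dd48101464680b8600149335dac1014562b78fb9029530045e80054020286900136080a1724ebe752597b32a8cfb5d0c101414601239802095c9575f00503a0081700128080a016006e2200ae89ae59671dc4200cc1e0088a002160809e2640a64600ff0404ef315542a92aa400108953a6cb804281013ac600fa0404e92802e67008637514d91028928041410138cd25119c463eb3f458101373ed7180404dadc95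fe4c6874b932b8c96070003d0200c902026989ae39664dc1f00382f11608daf07160452992a4e925694800cc100638101303f69020404bee803087003c84018d0404ba08097200032c595407c00fa100629c0049820259080312100622633b10202566a79c70e0389b006e820254a4ce85abddb1a9e70ab0f250404a705f369e92ad3a005208030933751567b6abc0096080302100601b004a82024ea24aa2a0028c200bebc007674013e1005e5ba2648401750802e8a8029c1012584016f0802dce203c9a004d02024a0802da08092590048d09d472c014408091e45b8948013c640130080915164528401660802ca10058c200afac005804048482fc90200ae52d74e50012e10056c1011d4f253551d98c1005652005aae9d3b4dad9c5152ec1011bbcd729728996bc32796004384014b8dae66ccbb0410119b054b74d7d56ed6b51a3368b6dd276d6dd20808c58645e8202300802820808bc2009f84013d0404581004e555f449cb72056293a1004d02009930004c48007c1004b5c929404012640a8feb0018de927582022648008208089462a7884011e080236ed63302008a840113040446b001ac20086bcf6fd0404441004242008382022155fce46800f02008002022004043e8b5bd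dfb67682021d5574fc2800f51000e0400f50801e68000d8200778400ee5400b4a2016c200742adcb04c0080100390f001c8400e00801b6e55b601010b9e002d49e09e1003401010b2f1a8408018a1003002005f18002908017490009c2005b0202133400321002bd16f3da4c8570404228b0a0c4253118ae6a5dbc761002a4e4e2a8202100801427ae9781010792002b0801320808382004904009008011c6a5068e402804008b20cc68080830b402402020b455c8c1001f02003d02020a0800e61001bc200360400680800ce0808202003220666104040e7000b8c4c218202060800a21001341010288000d0800880808102001f84003808006a1000c83110a04002a0800501000901010104001e0800361000602000a84001204040210002420001820200))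
def t7x : TN := (TN.leaf (nat_lit 0xdc02fdb13dc3900cdea016fe05f3b6004b7a00b15a013b9c027b30047b700c05c016eac02c75005f721ac8e44f900405f789763a900bfae4f8c5c5f16b9762b200a7ca0139b401c97803ce200b66201410405aa080b52900bcec3395a0bb1bb0d67e92ec94800e89001f95003f682fc0ebe578040592f0049b02ebad4013604058b7005a2d00afee019ed0bb3968d653700a6c233859801df7f4da99006b5a4f72040569880442300790202b2a86327cf9e66d00700202b1b39ae3480412c0057e200c79002b30802aa32fadd000db78021f68044f118aa9833543062a6080a7ef00a34a0105c4671348043762fb6d5c34cbc7a96f80322a0075cc01149802337175456007d3c00dd640182d0037b027c2485f40c0627f7004ba618cb82028bb0673108041e42ec4020289b001ed4975d1c00530e5d3404050a3174ca1007682028404050768c4fab1acd4400e2840187080369e0065ae00d954024ae8cdd941a938c0081180100e13a9c1013d82027a9801b128ce5a2007182027788be372802ce517a38202769001320809d70188aca3348b09eac0809cdf004f605d667462ae0809c6827a702027064011c980271e004d3a00ab806a740809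b241aa8502f5e0404d6e002e4101353e00d18400f988bbfa919bd462f7b08031ea8d514101318202620404c358bcdc8003382025fb85f0d1175941012f02025d949ed6b0f3ba0b79882025ba466920809681012cc6317c6401880809601012b583187849e3b08d4b01012a596b6184017ec8c509d18a20202539c6ab1013ca9619944bad1f0404a2c0c5a4200c18401820404a008093deb080340087800198080936300343f6acf749e52080930200bbbc334ac066b808092c200b9b122e7806256d802b181aa1a6005582f5be6802198004e82024804048e3172e9b1a8102024604048ab0024010122040167936234100590200b02600a4ac66baa002a01011fb430c2706a1100cd69e17412634ae740244d8bcd510021a430b03c00700808dcb2e50b6006e0802a4f0d4457905ea42f0a040468e97c263d48bae004e14007c2800f45001e0a003a040462a80190101182a5cb604045ec13c2c1011702022d080278c001042009c02022a64bda0623af82009984013008025ef802a4518920a4f23140050b000b140013c030ff080242100480101124200720802381004602008b02022308022500d1e02008704010c48006ad502801011084010608020610040410110456acd1cbdea08087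81010ea85e920801f21003e02007b82021b0801e81003c42007802021a0801d81003a8200748400e604043010039522e600400e10801b808085c2006b8400d30801a4b44a60200670400ca08018c2000541010a0400bc0801761002e02005b8400b540614a8938ed7194508001208015a20d25c4194b08309548008420ba50101081c32a308014408083d1473784009b04041c2000442004984009108011e100234200462a327e1868561002206191488447f4de4fa30c098627128400790800e808082420036840069040410100198200328202070800c0100170101030400570800a40808143142504004904040818a9003121904003908006c1000cc518068a4e0c145c160808082001104001f0800381000642000b04001310780610002810100040001))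
def tt : TN := (TN.node (TN.node (TN.node (TN.node t0x (TN.leaf (nat_lit 0))) (TN.node t4x (TN.leaf (nat_lit 0)))) (TN.node (TN.node t2x (TN.leaf (nat_lit 0))) (TN.node t6x (TN.leaf (nat_lit 0))))) (TN.node (TN.node (TN.node t1x (TN.leaf (nat_lit 0))) (TN.node t5x (TN.leaf (nat_lit 0)))) (TN.node (TN.node t3x (TN.leaf (nat_lit 0))) (TN.node t7x (TN.leaf (nat_lit 0))))))
noncomputable def T (j c : ℕ) : ℕ := getL tt (nat_lit 23) (nat_lit 511) j c
noncomputable def E (j c : ℕ) : ℕ := getL tt (nat_lit 23) (nat_lit 0x7fffff) j c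
theorem T_eq (j c : ℕ) : T j c = E j c % 512 :=
  getL_mod (a := 9) (b := 23) _ _ (by norm_num) (by norm_num) (by norm_num) (by norm_num) j c
def rels : List (List ℕ) := [[nat_lit 1, nat_lit 1, nat_lit 1], [nat_lit 3, nat_lit 3, nat_lit 3], [nat_lit 1, nat_lit 0, nat_lit 2, nat_lit 0], [nat_lit 3, nat_lit 0, nat_lit 4, nat_lit 0], [nat_lit 0, nat_lit 1, nat_lit 4, nat_lit 1, nat_lit 4], [nat_lit 3, nat_lit 5, nat_lit 3, nat_lit 5, nat_lit 3, nat_lit 5, nat_lit 3, nat_lit 5, nat_lit 3, nat_lit 5], [nat_lit 5, nat_lit 0, nat_lit 1, nat_lit 3, nat_lit 5, nat_lit 1, nat_lit 0, nat_lit 3], [nat_lit 5, nat_lit 3, nat_lit 5, nat_lit 2, nat_lit 3, nat_lit 5, nat_lit 1, nat_lit 5, nat_lit 3, nat_lit 0], [nat_lit 6, nat_lit 0, nat_lit 1, nat_lit 3, nat_lit 6, nat_lit 5, nat_lit 1, nat_lit 4, nat_lit 2, nat_lit 5, nat_lit 4], [nat_lit 6, nat_lit 0, nat_lit 5, nat_lit 0, nat_lit 6, nat_lit 3, nat_lit 2, nat_lit 5, nat_lit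 3, nat_lit 5, nat_lit 4, nat_lit 5], [nat_lit 6, nat_lit 5, nat_lit 2, nat_lit 5, nat_lit 2, nat_lit 6, nat_lit 0, nat_lit 5, nat_lit 4, nat_lit 5, nat_lit 1, nat_lit 5], [nat_lit 6, nat_lit 1, nat_lit 6, nat_lit 3, nat_lit 6, nat_lit 4, nat_lit 0, nat_lit 6, nat_lit 1, nat_lit 5, nat_lit 0, nat_lit 5, nat_lit 4, nat_lit 5], [nat_lit 6, nat_lit 2, nat_lit 5, nat_lit 3, nat_lit 5, nat_lit 6, nat_lit 0, nat_lit 6, nat_lit 1, nat_lit 3, nat_lit 1, nat_lit 5, nat_lit 1, nat_lit 5, nat_lit 4, nat_lit 5, nat_lit 1], [nat_lit 6, nat_lit 2, nat_lit 6, nat_lit 5, nat_lit 6, nat_lit 5, nat_lit 1, nat_lit 6, nat_lit 4, nat_lit 2, nat_lit 5, nat_lit 4, nat_lit 5, nat_lit 1], [nat_lit 6, nat_lit 3, nat_lit 6, nat_lit 3, nat_lit 2, nat_lit 6, nat_lit 4, nat_lit 6, nat_lit 2, nat_lit 4, nat_lit 2], [nat_lit 6, nat_lit 1, nat_lit 5, nat_lit 6, nat_lit 1, nat_lit 6, nat_lit 4, nat_lit 0, nat_lit 6, nat_lit 5, nat_lit 2, nat_lit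 6, nat_lit 1, nat_lit 4, nat_lit 5, nat_lit 2, nat_lit 5], [nat_lit 6, nat_lit 1, nat_lit 5, nat_lit 6, nat_lit 4, nat_lit 5, nat_lit 6, nat_lit 1, nat_lit 6, nat_lit 4, nat_lit 6, nat_lit 4, nat_lit 5, nat_lit 0, nat_lit 5, nat_lit 3], [nat_lit 0, nat_lit 7, nat_lit 0, nat_lit 7], [nat_lit 3, nat_lit 6, nat_lit 7, nat_lit 3, nat_lit 6, nat_lit 7, nat_lit 3, nat_lit 6, nat_lit 7], [nat_lit 7, nat_lit 1, nat_lit 7, nat_lit 2], [nat_lit 7, nat_lit 3, nat_lit 7, nat_lit 4], [nat_lit 7, nat_lit 6, nat_lit 3, nat_lit 6, nat_lit 7, nat_lit 6, nat_lit 4, nat_lit 6], [nat_lit 7, nat_lit 5, nat_lit 6, nat_lit 3, nat_lit 6, nat_lit 5, nat_lit 7, nat_lit 0, nat_lit 5, nat_lit 6, nat_lit 4, nat_lit 6, nat_lit 5, nat_lit 0], [nat_lit 7, nat_lit 5, nat_lit 6, nat_lit 5, nat_lit 7, nat_lit 3, nat_lit 5, nat_lit 7, nat_lit 1, nat_lit 5, nat_lit 3, nat_lit 6, nat_lit 4, nat_lit 5, nat_lit 3, nat_lit 5, nat_lit 6], [nat_lit 7,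 nat_lit 6, nat_lit 1, nat_lit 5, nat_lit 2, nat_lit 6, nat_lit 7, nat_lit 0, nat_lit 6, nat_lit 1, nat_lit 5, nat_lit 2, nat_lit 6, nat_lit 0], [nat_lit 7, nat_lit 6, nat_lit 2, nat_lit 6, nat_lit 5, nat_lit 2, nat_lit 5, nat_lit 7, nat_lit 5, nat_lit 6, nat_lit 1, nat_lit 6, nat_lit 1, nat_lit 4, nat_lit 5], [nat_lit 7, nat_lit 5, nat_lit 0, nat_lit 5, nat_lit 7, nat_lit 6, nat_lit 5, nat_lit 6, nat_lit 7, nat_lit 3, nat_lit 6, nat_lit 2, nat_lit 5, nat_lit 3, nat_lit 5, nat_lit 0], [nat_lit 7, nat_lit 5, nat_lit 0, nat_lit 6, nat_lit 7, nat_lit 0, nat_lit 6, nat_lit 0, nat_lit 5, nat_lit 7, nat_lit 3, nat_lit 2, nat_lit 6, nat_lit 5, nat_lit 1, nat_lit 0, nat_lit 6, nat_lit 3, nat_lit 0], [nat_lit 7, nat_lit 5, nat_lit 1, nat_lit 6, nat_lit 7, nat_lit 0, nat_lit 6, nat_lit 2, nat_lit 5, nat_lit 7, nat_lit 2, nat_lit 0, nat_lit 6, nat_lit 5, nat_lit 1, nat_lit 0, nat_lit 6, nat_lit 4], [nat_lit 7, nat_lit 5,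 nat_lit 2, nat_lit 6, nat_lit 3, nat_lit 6, nat_lit 7, nat_lit 2, nat_lit 5, nat_lit 7, nat_lit 3, nat_lit 5, nat_lit 4, nat_lit 6, nat_lit 5, nat_lit 6, nat_lit 5, nat_lit 0], [nat_lit 7, nat_lit 6, nat_lit 0, nat_lit 6, nat_lit 7, nat_lit 0, nat_lit 6, nat_lit 0, nat_lit 6, nat_lit 7, nat_lit 0, nat_lit 6, nat_lit 0, nat_lit 6, nat_lit 0]]
def inv (i : ℕ) : ℕ := Nat.land (Nat.shiftRight (nat_lit 0x876534120) (Nat.mul (nat_lit 4) i)) (nat_lit 15)
def X_t : TN := (TN.leaf (nat_lit 0))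
noncomputable def X (i : ℕ) : ℕ := get9 X_t (nat_lit 1) (nat_lit 1) i
def Jp_t : TN := (TN.leaf (nat_lit 0))
noncomputable def Jp (i : ℕ) : ℕ := get9 Jp_t (nat_lit 1) (nat_lit 1) i
def J_t : TN := (TN.leaf (nat_lit 0))
noncomputable def J (k : ℕ) : ℕ := getV J_t Jp k
def Pa_t : TN := (TN.leaf (nat_lit 0x8b41c59d62be115e68aeabcb41e46af21678f8bc691e0eaf0657820bc059dfc6efe277dbbbd99de0ceee277703ba99dcecee6677203b801dbe8ed7676abbb51dda6ced26768a3b415d9acecd176683b315d94ceca5764bbb255d90cec76762bbb145d8a4ec5076233b0d9d7ecebf475f93af95d7c2eb5575a3bad19d66ceb2775933ac95d648eb17758b3ac15d5e0ead675533aa51d4ccea637530ba989d4aaea147508ba7ddd3e4e9e374f0ba789d3c0e9d574e33a6d5932ac99464c8324d59246c9216481b240591ecc8f5646b32355918cc8b76459b22c9914cc8976442b21cd90e0c866642bb215990a2c847641bb20c9904cc8236410b20899040c8156409b20199008c7f163f931f958f6ec7a763cab1e198f04c77763bb31dd58ee6c76763b231d5d8eacc75163a331cdd8e66c731639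831c5d8e2cc707637931bc18dccc6e3636b31b1d8d82c6c0635bb1ad18d4ec696634ab1a158d04c680632ab190d8c6ec627630bb18418c0cc5f762fb317d18bcec5d762eb317198b8ac5b762dab169d8b2ec59662cab161d8acec56662b0315458a8ec54662a2b150d8a88c537629b314cd8a68c525628bb14558a28c5106283b13dd89eac4e66272b135d89aac4d162693131d8986c4c26260312dd896cc4b3625a312c58964c4a66252b1259892ac487623bb11d988eac467622bb1159888ec4456220b11098880c43162133108d87eec3d561e2b0ed5874cc3a461d0b0e158702c38261c030ddd86ecc37261b2b0d5586a2c35061a3b0d01466ca3355191a8c914642a320518ba8c59460ea306517ba8bd945cea2d7516328b11456aa2a75152a8a8d4548a2a2515028a154502a2825140289d144e0a2665132a8959448ea2455120a89094480a237511b288cd4468a232511328895442ea216510aa884d440ea20650fb2879d43aea1d650e8a8749438aa1b750daa86d14360a1a750d1a86914344a1a050c3a86154306a18150c1285dd42eca17350ba285c142cca16550aaa8541428ea14350a2285094280a136509aa84954244a120508b2844d4228a111508928441420ea1065082a83dd41eca0f54073a039901c680e44070a038901c080d54069a0319018880b6405aa02c5016480a64052a025d012280904043a0219010a8077403b201d500ce80664032a015d00ac80554023a0119008a80444020980d4c062603230181809cc04c6023301218084c0446020200b10054400e0000))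
noncomputable def Pa (i : ℕ) : ℕ := get9 Pa_t (nat_lit 17) (nat_lit 131071) i
def W_t1 : TL := (TL.node (TL.node (TL.node (TL.node (TL.node (TL.node (TL.leaf [nat_lit 2, nat_lit 1, nat_lit 2, nat_lit 2]) (TL.leaf [nat_lit 57373, nat_lit 2, nat_lit 0, nat_lit 6, nat_lit 4, nat_lit 7, nat_lit 5, nat_lit 1, nat_lit 6, nat_lit 7, nat_lit 0, nat_lit 6, nat_lit 2, nat_lit 5, nat_lit 7, nat_lit 2, nat_lit 0, nat_lit 6, nat_lit 5])) (TL.node (TL.leaf [nat_lit 16386, nat_lit 4, nat_lit 5, nat_lit 1, nat_lit 3, nat_lit 2, nat_lit 5, nat_lit 6, nat_lit 4, nat_lit 2, nat_lit 0, nat_lit 6]) (TL.leaf [nat_lit 22547, nat_lit 5, nat_lit 0, nat_lit 5, nat_lit 4, nat_lit 5, nat_lit 6, nat_lit 1, nat_lit 6, nat_lit 3, nat_lit 6, nat_lit 4, nat_lit 0, nat_lit 6, nat_lit 1]))) (TL.node (TL.node (TL.leaf [nat_lit 61441, nat_lit 7, nat_lit 6, nat_lit 0, nat_lit 6, nat_lit 7, nat_lit 0, nat_lit 6, nat_lit 0, nat_lit 6, nat_lit 7, nat_lit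 0, nat_lit 6, nat_lit 0, nat_lit 6, nat_lit 0]) (TL.leaf [nat_lit 28677, nat_lit 6, nat_lit 3, nat_lit 2, nat_lit 6, nat_lit 4, nat_lit 6, nat_lit 2, nat_lit 4, nat_lit 2, nat_lit 6, nat_lit 3])) (TL.node (TL.leaf [nat_lit 12298, nat_lit 3, nat_lit 2, nat_lit 0, nat_lit 5, nat_lit 4, nat_lit 0, nat_lit 2, nat_lit 5]) (TL.leaf [nat_lit 18448, nat_lit 6, nat_lit 0, nat_lit 5, nat_lit 0, nat_lit 6, nat_lit 5, nat_lit 3, nat_lit 5, nat_lit 4, nat_lit 5, nat_lit 1, nat_lit 4])))) (TL.node (TL.node (TL.node (TL.leaf [nat_lit 53272, nat_lit 7, nat_lit 5, nat_lit 0, nat_lit 5, nat_lit 7, nat_lit 0, nat_lit 5, nat_lit 4, nat_lit 5, nat_lit 1, nat_lit 6, nat_lit 4, nat_lit 7, nat_lit 6, nat_lit 5, nat_lit 6]) (TL.leaf [nat_lit 43015, nat_lit 6, nat_lit 7, nat_lit 6, nat_lit 4, nat_lit 6, nat_lit 7, nat_lit 6, nat_lit 3])) (TL.node (TL.leaf [nat_lit 16396, nat_lit 5, nat_lit 6, nat_lit 4, nat_lit 2, nat_lit 0, nat_lit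 6, nat_lit 3, nat_lit 5, nat_lit 1, nat_lit 3, nat_lit 2]) (TL.leaf [nat_lit 20493, nat_lit 0, nat_lit 5, nat_lit 4, nat_lit 5, nat_lit 1, nat_lit 5, nat_lit 6, nat_lit 5, nat_lit 2, nat_lit 5, nat_lit 2, nat_lit 6]))) (TL.node (TL.node (TL.leaf [nat_lit 28682, nat_lit 4, nat_lit 6, nat_lit 1, nat_lit 4, nat_lit 6, nat_lit 4, nat_lit 6, nat_lit 1, nat_lit 3, nat_lit 1, nat_lit 6]) (TL.leaf [nat_lit 14354, nat_lit 3, nat_lit 5, nat_lit 0, nat_lit 4, nat_lit 5, nat_lit 2, nat_lit 5, nat_lit 4, nat_lit 1, nat_lit 5])) (TL.node (TL.leaf [nat_lit 59421, nat_lit 5, nat_lit 6, nat_lit 5, nat_lit 0, nat_lit 7, nat_lit 5, nat_lit 2, nat_lit 6, nat_lit 3, nat_lit 6, nat_lit 7, nat_lit 2, nat_lit 5, nat_lit 7, nat_lit 3, nat_lit 5, nat_lit 4, nat_lit 6]) (TL.leaf [nat_lit 55315, nat_lit 7, nat_lit 3, nat_lit 2, nat_lit 6, nat_lit 5, nat_lit 1, nat_lit 0, nat_lit 6, nat_lit 3, nat_lit 0, nat_lit 7, nat_lit 5, nat_lit 0,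 nat_lit 6, nat_lit 7, nat_lit 0, nat_lit 6, nat_lit 0, nat_lit 5]))))) (TL.node (TL.node (TL.node (TL.node (TL.leaf [nat_lit 40967, nat_lit 3, nat_lit 7, nat_lit 3, nat_lit 7]) (TL.leaf [nat_lit 30737, nat_lit 6, nat_lit 5, nat_lit 2, nat_lit 6, nat_lit 1, nat_lit 4, nat_lit 5, nat_lit 2, nat_lit 5, nat_lit 6, nat_lit 1, nat_lit 5, nat_lit 6, nat_lit 1, nat_lit 6, nat_lit 4, nat_lit 0])) (TL.node (TL.leaf [nat_lit 26638, nat_lit 6, nat_lit 2, nat_lit 5, nat_lit 6, nat_lit 5, nat_lit 6, nat_lit 1, nat_lit 6, nat_lit 2, nat_lit 5, nat_lit 3, nat_lit 5, nat_lit 1, nat_lit 3]) (TL.leaf [nat_lit 18433, nat_lit 6, nat_lit 0, nat_lit 5, nat_lit 0, nat_lit 6, nat_lit 3, nat_lit 2, nat_lit 5, nat_lit 3, nat_lit 5, nat_lit 4, nat_lit 5]))) (TL.node (TL.node (TL.leaf [nat_lit 36867, nat_lit 6, nat_lit 7, nat_lit 3, nat_lit 6, nat_lit 7, nat_lit 3, nat_lit 6, nat_lit 7, nat_lit 3]) (TL.leaf [nat_lit 26628, nat_lit 5, nat_lit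 3, nat_lit 5, nat_lit 1, nat_lit 3, nat_lit 6, nat_lit 2, nat_lit 5, nat_lit 6, nat_lit 5, nat_lit 6, nat_lit 1, nat_lit 6, nat_lit 2])) (TL.node (TL.leaf [nat_lit 12290, nat_lit 3, nat_lit 0, nat_lit 2, nat_lit 5, nat_lit 4, nat_lit 2, nat_lit 0, nat_lit 5]) (TL.leaf [nat_lit 14347, nat_lit 5, nat_lit 1, nat_lit 5, nat_lit 3, nat_lit 0, nat_lit 5, nat_lit 3, nat_lit 5, nat_lit 2, nat_lit 3])))) (TL.node (TL.node (TL.node (TL.leaf [nat_lit 40961, nat_lit 7, nat_lit 3, nat_lit 7, nat_lit 4]) (TL.leaf [nat_lit 26631, nat_lit 5, nat_lit 6, nat_lit 5, nat_lit 1, nat_lit 6, nat_lit 4, nat_lit 2, nat_lit 5, nat_lit 4, nat_lit 5, nat_lit 1, nat_lit 6, nat_lit 2, nat_lit 6])) (TL.node (TL.leaf [nat_lit 8194, nat_lit 4, nat_lit 2, nat_lit 3, nat_lit 2, nat_lit 0]) (TL.leaf [nat_lit 28674, nat_lit 2, nat_lit 3, nat_lit 1, nat_lit 6, nat_lit 3, nat_lit 6, nat_lit 1, nat_lit 4, nat_lit 6, nat_lit 4, nat_lit 6]))) (TL.node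 (TL.node (TL.leaf [nat_lit 18434, nat_lit 5, nat_lit 3, nat_lit 5, nat_lit 4, nat_lit 5, nat_lit 1, nat_lit 4, nat_lit 6, nat_lit 0, nat_lit 5, nat_lit 0, nat_lit 6]) (TL.leaf [nat_lit 30736, nat_lit 5, nat_lit 6, nat_lit 0, nat_lit 3, nat_lit 6, nat_lit 2, nat_lit 6, nat_lit 5, nat_lit 2, nat_lit 6, nat_lit 5, nat_lit 1, nat_lit 5, nat_lit 3, nat_lit 2, nat_lit 6, nat_lit 1])) (TL.leaf [nat_lit 14343, nat_lit 1, nat_lit 3, nat_lit 5, nat_lit 1, nat_lit 5, nat_lit 3, nat_lit 0, nat_lit 5, nat_lit 3, nat_lit 5]))))) (TL.node (TL.node (TL.node (TL.node (TL.node (TL.leaf [nat_lit 40963, nat_lit 4, nat_lit 7, nat_lit 4, nat_lit 7]) (TL.leaf [nat_lit 26633, nat_lit 6, nat_lit 5, nat_lit 1, nat_lit 6, nat_lit 4, nat_lit 2, nat_lit 5, nat_lit 4, nat_lit 5, nat_lit 1, nat_lit 6, nat_lit 2, nat_lit 6, nat_lit 5])) (TL.node (TL.leaf [nat_lit 12299, nat_lit 2, nat_lit 0, nat_lit 3, nat_lit 5, nat_lit 0, nat_lit 1, nat_lit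 3, nat_lit 5]) (TL.leaf [nat_lit 28690, nat_lit 6, nat_lit 4, nat_lit 6, nat_lit 1, nat_lit 3, nat_lit 1, nat_lit 6, nat_lit 3, nat_lit 6, nat_lit 1, nat_lit 4]))) (TL.node (TL.node (TL.leaf [nat_lit 1, nat_lit 2, nat_lit 1, nat_lit 1]) (TL.leaf [nat_lit 16388, nat_lit 5, nat_lit 1, nat_lit 3, nat_lit 2, nat_lit 5, nat_lit 6, nat_lit 4, nat_lit 2, nat_lit 0, nat_lit 6, nat_lit 3])) (TL.node (TL.leaf [nat_lit 16395, nat_lit 5, nat_lit 1, nat_lit 4, nat_lit 2, nat_lit 5, nat_lit 4, nat_lit 6, nat_lit 0, nat_lit 1, nat_lit 3, nat_lit 6]) (TL.leaf [nat_lit 59416, nat_lit 7, nat_lit 6, nat_lit 4, nat_lit 6, nat_lit 1, nat_lit 5, nat_lit 7, nat_lit 0, nat_lit 5, nat_lit 6, nat_lit 5, nat_lit 6, nat_lit 3, nat_lit 5, nat_lit 4, nat_lit 7, nat_lit 5, nat_lit 1])))) (TL.node (TL.node (TL.node (TL.leaf [nat_lit 6149, nat_lit 3, nat_lit 0, nat_lit 3, nat_lit 0]) (TL.leaf [nat_lit 28678, nat_lit 2, nat_lit 6, nat_lit 3,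 nat_lit 6, nat_lit 1, nat_lit 4, nat_lit 6, nat_lit 4, nat_lit 6, nat_lit 1, nat_lit 3])) (TL.node (TL.leaf [nat_lit 20483, nat_lit 5, nat_lit 2, nat_lit 5, nat_lit 2, nat_lit 6, nat_lit 0, nat_lit 5, nat_lit 4, nat_lit 5, nat_lit 1, nat_lit 5, nat_lit 6]) (TL.leaf [nat_lit 47113, nat_lit 7, nat_lit 3, nat_lit 5, nat_lit 7, nat_lit 1, nat_lit 5, nat_lit 3, nat_lit 6, nat_lit 4, nat_lit 5, nat_lit 3, nat_lit 5, nat_lit 6, nat_lit 7, nat_lit 5, nat_lit 6, nat_lit 5]))) (TL.node (TL.node (TL.leaf [nat_lit 4097, nat_lit 2, nat_lit 0, nat_lit 2, nat_lit 0]) (TL.leaf [nat_lit 53270, nat_lit 6, nat_lit 7, nat_lit 5, nat_lit 0, nat_lit 5, nat_lit 7, nat_lit 0, nat_lit 5, nat_lit 4, nat_lit 5, nat_lit 1, nat_lit 6, nat_lit 4, nat_lit 7, nat_lit 6, nat_lit 5])) (TL.leaf [nat_lit 18441, nat_lit 6, nat_lit 3, nat_lit 2, nat_lit 5, nat_lit 3, nat_lit 5, nat_lit 4, nat_lit 5, nat_lit 6, nat_lit 0, nat_lit 5, nat_lit 0]))))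 (TL.node (TL.node (TL.node (TL.node (TL.leaf [nat_lit 43021, nat_lit 3, nat_lit 6, nat_lit 7, nat_lit 6, nat_lit 3, nat_lit 6, nat_lit 7, nat_lit 6]) (TL.leaf [nat_lit 53255, nat_lit 5, nat_lit 7, nat_lit 6, nat_lit 5, nat_lit 6, nat_lit 7, nat_lit 3, nat_lit 6, nat_lit 2, nat_lit 5, nat_lit 3, nat_lit 5, nat_lit 0, nat_lit 7, nat_lit 5, nat_lit 0])) (TL.node (TL.leaf [nat_lit 43023, nat_lit 6, nat_lit 7, nat_lit 6, nat_lit 3, nat_lit 6, nat_lit 7, nat_lit 6, nat_lit 4]) (TL.leaf [nat_lit 36865, nat_lit 4, nat_lit 6, nat_lit 7, nat_lit 3, nat_lit 6, nat_lit 7, nat_lit 3, nat_lit 6, nat_lit 7]))) (TL.node (TL.node (TL.leaf [nat_lit 43017, nat_lit 7, nat_lit 6, nat_lit 4, nat_lit 6, nat_lit 7, nat_lit 6, nat_lit 3, nat_lit 6]) (TL.leaf [nat_lit 22551, nat_lit 5, nat_lit 4, nat_lit 5, nat_lit 6, nat_lit 1, nat_lit 6, nat_lit 3, nat_lit 6, nat_lit 4, nat_lit 0, nat_lit 6, nat_lit 1, nat_lit 5, nat_lit 0])) (TL.node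 (TL.leaf [nat_lit 16393, nat_lit 6, nat_lit 5, nat_lit 1, nat_lit 4, nat_lit 2, nat_lit 5, nat_lit 4, nat_lit 6, nat_lit 0, nat_lit 1, nat_lit 3]) (TL.leaf [nat_lit 28673, nat_lit 6, nat_lit 3, nat_lit 6, nat_lit 3, nat_lit 2, nat_lit 6, nat_lit 4, nat_lit 6, nat_lit 2, nat_lit 4, nat_lit 2])))) (TL.node (TL.node (TL.node (TL.leaf [nat_lit 36866, nat_lit 7, nat_lit 6, nat_lit 4, nat_lit 7, nat_lit 6, nat_lit 4, nat_lit 7, nat_lit 6, nat_lit 4]) (TL.leaf [nat_lit 20491, nat_lit 6, nat_lit 0, nat_lit 5, nat_lit 4, nat_lit 5, nat_lit 1, nat_lit 5, nat_lit 6, nat_lit 5, nat_lit 2, nat_lit 5, nat_lit 2])) (TL.node (TL.leaf [nat_lit 28686, nat_lit 2, nat_lit 4, nat_lit 6, nat_lit 4, nat_lit 6, nat_lit 1, nat_lit 3, nat_lit 1, nat_lit 6, nat_lit 3, nat_lit 6]) (TL.leaf [nat_lit 20503, nat_lit 5, nat_lit 6, nat_lit 5, nat_lit 2, nat_lit 5, nat_lit 2, nat_lit 6, nat_lit 0, nat_lit 5, nat_lit 4, nat_lit 5, nat_lit 1])))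 (TL.node (TL.node (TL.leaf [nat_lit 10243, nat_lit 5, nat_lit 3, nat_lit 5, nat_lit 3, nat_lit 5, nat_lit 3, nat_lit 5, nat_lit 3, nat_lit 5, nat_lit 3]) (TL.leaf [nat_lit 30744, nat_lit 6, nat_lit 2, nat_lit 6, nat_lit 5, nat_lit 2, nat_lit 6, nat_lit 5, nat_lit 1, nat_lit 5, nat_lit 3, nat_lit 2, nat_lit 6, nat_lit 1, nat_lit 5, nat_lit 6, nat_lit 0, nat_lit 3])) (TL.leaf [nat_lit 61447, nat_lit 6, nat_lit 7, nat_lit 0, nat_lit 6, nat_lit 0, nat_lit 6, nat_lit 7, nat_lit 0, nat_lit 6, nat_lit 0, nat_lit 6, nat_lit 0, nat_lit 7, nat_lit 6, nat_lit 0]))))))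
def W_t2 : TL := (TL.node (TL.node (TL.node (TL.node (TL.node (TL.node (TL.leaf [nat_lit 34817, nat_lit 0, nat_lit 7, nat_lit 0, nat_lit 7]) (TL.leaf [nat_lit 18435, nat_lit 0, nat_lit 5, nat_lit 0, nat_lit 6, nat_lit 3, nat_lit 2, nat_lit 5, nat_lit 3, nat_lit 5, nat_lit 4, nat_lit 5, nat_lit 6])) (TL.node (TL.leaf [nat_lit 6145, nat_lit 4, nat_lit 0, nat_lit 4, nat_lit 0]) (TL.leaf [nat_lit 55313, nat_lit 5, nat_lit 7, nat_lit 3, nat_lit 2, nat_lit 6, nat_lit 5, nat_lit 1, nat_lit 0, nat_lit 6, nat_lit 3, nat_lit 0, nat_lit 7, nat_lit 5, nat_lit 0, nat_lit 6, nat_lit 7, nat_lit 0, nat_lit 6, nat_lit 0]))) (TL.node (TL.node (TL.leaf [nat_lit 51209, nat_lit 5, nat_lit 2, nat_lit 5, nat_lit 7, nat_lit 5, nat_lit 6, nat_lit 1, nat_lit 6, nat_lit 1, nat_lit 4, nat_lit 5, nat_lit 7, nat_lit 6, nat_lit 2, nat_lit 6]) (TL.leaf [nat_lit 20502, nat_lit 5, nat_lit 6, nat_lit 5, nat_lit 2, nat_lit 5, nat_lit 3, nat_lit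 5, nat_lit 0, nat_lit 6, nat_lit 1, nat_lit 5, nat_lit 1])) (TL.node (TL.leaf [nat_lit 36868, nat_lit 6, nat_lit 4, nat_lit 7, nat_lit 6, nat_lit 4, nat_lit 7, nat_lit 6, nat_lit 4, nat_lit 7]) (TL.leaf [nat_lit 32773, nat_lit 5, nat_lit 6, nat_lit 4, nat_lit 5, nat_lit 6, nat_lit 1, nat_lit 6, nat_lit 4, nat_lit 6, nat_lit 4, nat_lit 5, nat_lit 0, nat_lit 5, nat_lit 3, nat_lit 6, nat_lit 1])))) (TL.node (TL.node (TL.node (TL.leaf [nat_lit 57372, nat_lit 7, nat_lit 6, nat_lit 2, nat_lit 5, nat_lit 7, nat_lit 3, nat_lit 6, nat_lit 0, nat_lit 2, nat_lit 5, nat_lit 6, nat_lit 0, nat_lit 1, nat_lit 7, nat_lit 5, nat_lit 1, nat_lit 6, nat_lit 0]) (TL.leaf [nat_lit 14338, nat_lit 0, nat_lit 4, nat_lit 5, nat_lit 2, nat_lit 5, nat_lit 4, nat_lit 1, nat_lit 5, nat_lit 4, nat_lit 5])) (TL.node (TL.leaf [nat_lit 20487, nat_lit 5, nat_lit 2, nat_lit 6, nat_lit 0, nat_lit 5, nat_lit 4, nat_lit 5, nat_lit 1, nat_lit 5, nat_lit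 6, nat_lit 5, nat_lit 2]) (TL.leaf [nat_lit 53264, nat_lit 7, nat_lit 6, nat_lit 5, nat_lit 6, nat_lit 7, nat_lit 5, nat_lit 0, nat_lit 5, nat_lit 7, nat_lit 0, nat_lit 5, nat_lit 4, nat_lit 5, nat_lit 1, nat_lit 6, nat_lit 4]))) (TL.node (TL.node (TL.leaf [nat_lit 51210, nat_lit 1, nat_lit 6, nat_lit 5, nat_lit 7, nat_lit 5, nat_lit 1, nat_lit 5, nat_lit 6, nat_lit 1, nat_lit 6, nat_lit 7, nat_lit 5, nat_lit 3, nat_lit 2, nat_lit 6]) (TL.leaf [nat_lit 49163, nat_lit 6, nat_lit 7, nat_lit 0, nat_lit 6, nat_lit 1, nat_lit 5, nat_lit 2, nat_lit 6, nat_lit 0, nat_lit 7, nat_lit 6, nat_lit 1, nat_lit 5, nat_lit 2])) (TL.node (TL.leaf [nat_lit 8202, nat_lit 0, nat_lit 3, nat_lit 2, nat_lit 3, nat_lit 2]) (TL.leaf [nat_lit 26629, nat_lit 6, nat_lit 5, nat_lit 6, nat_lit 5, nat_lit 1, nat_lit 6, nat_lit 4, nat_lit 2, nat_lit 5, nat_lit 4, nat_lit 5, nat_lit 1, nat_lit 6, nat_lit 2]))))) (TL.node (TL.node (TL.node (TL.node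 (TL.leaf [nat_lit 8198, nat_lit 4, nat_lit 2, nat_lit 0, nat_lit 3, nat_lit 2]) (TL.leaf [nat_lit 10244, nat_lit 3, nat_lit 5, nat_lit 4, nat_lit 5, nat_lit 4, nat_lit 5, nat_lit 4, nat_lit 5, nat_lit 4, nat_lit 5])) (TL.node (TL.leaf [nat_lit 59398, nat_lit 6, nat_lit 5, nat_lit 6, nat_lit 3, nat_lit 5, nat_lit 4, nat_lit 7, nat_lit 5, nat_lit 1, nat_lit 7, nat_lit 6, nat_lit 4, nat_lit 6, nat_lit 1, nat_lit 5, nat_lit 7, nat_lit 0, nat_lit 5]) (TL.leaf [nat_lit 47112, nat_lit 5, nat_lit 3, nat_lit 6, nat_lit 4, nat_lit 5, nat_lit 2, nat_lit 7, nat_lit 5, nat_lit 4, nat_lit 7, nat_lit 5, nat_lit 6, nat_lit 5, nat_lit 7, nat_lit 6, nat_lit 5, nat_lit 4]))) (TL.node (TL.node (TL.leaf [nat_lit 2049, nat_lit 4, nat_lit 3, nat_lit 3]) (TL.leaf [nat_lit 26625, nat_lit 6, nat_lit 2, nat_lit 6, nat_lit 5, nat_lit 6, nat_lit 5, nat_lit 1, nat_lit 6, nat_lit 4, nat_lit 2, nat_lit 5, nat_lit 4, nat_lit 5, nat_lit 1]))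 (TL.node (TL.leaf [nat_lit 14346, nat_lit 5, nat_lit 4, nat_lit 1, nat_lit 5, nat_lit 4, nat_lit 5, nat_lit 0, nat_lit 4, nat_lit 5, nat_lit 2]) (TL.leaf [nat_lit 14342, nat_lit 5, nat_lit 2, nat_lit 5, nat_lit 4, nat_lit 1, nat_lit 5, nat_lit 4, nat_lit 5, nat_lit 0, nat_lit 4])))) (TL.node (TL.node (TL.node (TL.leaf [nat_lit 12292, nat_lit 0, nat_lit 2, nat_lit 5, nat_lit 4, nat_lit 2, nat_lit 0, nat_lit 5, nat_lit 4]) (TL.leaf [nat_lit 22540, nat_lit 1, nat_lit 6, nat_lit 0, nat_lit 3, nat_lit 6, nat_lit 4, nat_lit 6, nat_lit 2, nat_lit 6, nat_lit 5, nat_lit 3, nat_lit 5, nat_lit 0, nat_lit 5])) (TL.node (TL.leaf [nat_lit 14355, nat_lit 0, nat_lit 5, nat_lit 3, nat_lit 5, nat_lit 2, nat_lit 3, nat_lit 5, nat_lit 1, nat_lit 5, nat_lit 3]) (TL.leaf [nat_lit 26646, nat_lit 5, nat_lit 6, nat_lit 1, nat_lit 6, nat_lit 2, nat_lit 5, nat_lit 3, nat_lit 5, nat_lit 1, nat_lit 3, nat_lit 6, nat_lit 2, nat_lit 5, nat_lit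 6]))) (TL.node (TL.node (TL.leaf [nat_lit 12296, nat_lit 5, nat_lit 4, nat_lit 2, nat_lit 0, nat_lit 5, nat_lit 4, nat_lit 0, nat_lit 2]) (TL.leaf [nat_lit 28691, nat_lit 3, nat_lit 2, nat_lit 6, nat_lit 3, nat_lit 6, nat_lit 3, nat_lit 2, nat_lit 6, nat_lit 4, nat_lit 6, nat_lit 2])) (TL.leaf [nat_lit 18447, nat_lit 5, nat_lit 3, nat_lit 5, nat_lit 4, nat_lit 5, nat_lit 6, nat_lit 0, nat_lit 5, nat_lit 0, nat_lit 6, nat_lit 3, nat_lit 2]))))) (TL.node (TL.node (TL.node (TL.node (TL.node (TL.leaf [nat_lit 6147, nat_lit 0, nat_lit 4, nat_lit 0, nat_lit 3]) (TL.leaf [nat_lit 61453, nat_lit 6, nat_lit 0, nat_lit 6, nat_lit 7, nat_lit 0, nat_lit 6, nat_lit 0, nat_lit 6, nat_lit 0, nat_lit 7, nat_lit 6, nat_lit 0, nat_lit 6, nat_lit 7, nat_lit 0])) (TL.node (TL.leaf [nat_lit 16405, nat_lit 3, nat_lit 6, nat_lit 0, nat_lit 1, nat_lit 3, nat_lit 6, nat_lit 5, nat_lit 1, nat_lit 4, nat_lit 2, nat_lit 5]) (TL.leaf [nat_lit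 18444, nat_lit 2, nat_lit 4, nat_lit 6, nat_lit 0, nat_lit 5, nat_lit 0, nat_lit 6, nat_lit 5, nat_lit 3, nat_lit 5, nat_lit 4, nat_lit 5]))) (TL.node (TL.node (TL.leaf [nat_lit 8199, nat_lit 2, nat_lit 4, nat_lit 0, nat_lit 1, nat_lit 4]) (TL.leaf [nat_lit 20494, nat_lit 6, nat_lit 1, nat_lit 5, nat_lit 1, nat_lit 5, nat_lit 6, nat_lit 5, nat_lit 2, nat_lit 5, nat_lit 3, nat_lit 5, nat_lit 0])) (TL.node (TL.leaf [nat_lit 26651, nat_lit 2, nat_lit 6, nat_lit 2, nat_lit 6, nat_lit 5, nat_lit 6, nat_lit 5, nat_lit 1, nat_lit 6, nat_lit 4, nat_lit 2, nat_lit 5, nat_lit 4, nat_lit 5]) (TL.leaf [nat_lit 51221, nat_lit 2, nat_lit 6, nat_lit 1, nat_lit 4, nat_lit 5, nat_lit 7, nat_lit 6, nat_lit 2, nat_lit 6, nat_lit 5, nat_lit 2, nat_lit 5, nat_lit 7, nat_lit 5, nat_lit 6])))) (TL.node (TL.node (TL.node (TL.leaf [nat_lit 38913, nat_lit 7, nat_lit 1, nat_lit 7, nat_lit 2]) (TL.leaf [nat_lit 18439, nat_lit 0, nat_lit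 6, nat_lit 3, nat_lit 2, nat_lit 5, nat_lit 3, nat_lit 5, nat_lit 4, nat_lit 5, nat_lit 6, nat_lit 0, nat_lit 5])) (TL.node (TL.leaf [nat_lit 45067, nat_lit 5, nat_lit 7, nat_lit 0, nat_lit 5, nat_lit 6, nat_lit 4, nat_lit 6, nat_lit 5, nat_lit 0, nat_lit 7, nat_lit 5, nat_lit 6, nat_lit 3, nat_lit 6]) (TL.leaf [nat_lit 59428, nat_lit 7, nat_lit 0, nat_lit 5, nat_lit 6, nat_lit 5, nat_lit 6, nat_lit 3, nat_lit 5, nat_lit 4, nat_lit 7, nat_lit 5, nat_lit 1, nat_lit 7, nat_lit 6, nat_lit 4, nat_lit 6, nat_lit 1, nat_lit 5]))) (TL.node (TL.node (TL.leaf [nat_lit 12303, nat_lit 4, nat_lit 5, nat_lit 0, nat_lit 1, nat_lit 3, nat_lit 5, nat_lit 1, nat_lit 0]) (TL.leaf [nat_lit 24583, nat_lit 4, nat_lit 5, nat_lit 6, nat_lit 0, nat_lit 6, nat_lit 1, nat_lit 3, nat_lit 1, nat_lit 5, nat_lit 1, nat_lit 5, nat_lit 4, nat_lit 5, nat_lit 1, nat_lit 6, nat_lit 2, nat_lit 5])) (TL.leaf [nat_lit 32769, nat_lit 6, nat_lit 1,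 nat_lit 5, nat_lit 6, nat_lit 4, nat_lit 5, nat_lit 6, nat_lit 1, nat_lit 6, nat_lit 4, nat_lit 6, nat_lit 4, nat_lit 5, nat_lit 0, nat_lit 5, nat_lit 3])))) (TL.node (TL.node (TL.node (TL.node (TL.leaf [nat_lit 49159, nat_lit 5, nat_lit 2, nat_lit 6, nat_lit 7, nat_lit 0, nat_lit 6, nat_lit 1, nat_lit 5, nat_lit 2, nat_lit 6, nat_lit 0, nat_lit 7, nat_lit 6, nat_lit 1]) (TL.leaf [nat_lit 59411, nat_lit 7, nat_lit 3, nat_lit 5, nat_lit 4, nat_lit 6, nat_lit 5, nat_lit 6, nat_lit 5, nat_lit 0, nat_lit 7, nat_lit 5, nat_lit 2, nat_lit 6, nat_lit 3, nat_lit 6, nat_lit 7, nat_lit 2, nat_lit 5])) (TL.node (TL.leaf [nat_lit 12294, nat_lit 1, nat_lit 5, nat_lit 4, nat_lit 2, nat_lit 0, nat_lit 5, nat_lit 4, nat_lit 0]) (TL.leaf [nat_lit 16397, nat_lit 2, nat_lit 4, nat_lit 2, nat_lit 5, nat_lit 4, nat_lit 6, nat_lit 0, nat_lit 1, nat_lit 3, nat_lit 6, nat_lit 5]))) (TL.node (TL.node (TL.leaf [nat_lit 14349, nat_lit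 2, nat_lit 5, nat_lit 3, nat_lit 0, nat_lit 5, nat_lit 3, nat_lit 5, nat_lit 2, nat_lit 3, nat_lit 5]) (TL.leaf [nat_lit 57353, nat_lit 7, nat_lit 0, nat_lit 6, nat_lit 2, nat_lit 5, nat_lit 7, nat_lit 2, nat_lit 0, nat_lit 6, nat_lit 5, nat_lit 1, nat_lit 0, nat_lit 6, nat_lit 4, nat_lit 7, nat_lit 5, nat_lit 1, nat_lit 6])) (TL.node (TL.leaf [nat_lit 20498, nat_lit 5, nat_lit 1, nat_lit 5, nat_lit 6, nat_lit 5, nat_lit 2, nat_lit 5, nat_lit 3, nat_lit 5, nat_lit 0, nat_lit 6, nat_lit 1]) (TL.leaf [nat_lit 20499, nat_lit 5, nat_lit 1, nat_lit 5, nat_lit 6, nat_lit 5, nat_lit 2, nat_lit 5, nat_lit 2, nat_lit 6, nat_lit 0, nat_lit 5, nat_lit 4])))) (TL.node (TL.node (TL.node (TL.leaf [nat_lit 16399, nat_lit 3, nat_lit 2, nat_lit 5, nat_lit 4, nat_lit 6, nat_lit 0, nat_lit 1, nat_lit 3, nat_lit 6, nat_lit 5, nat_lit 1]) (TL.leaf [nat_lit 51216, nat_lit 7, nat_lit 5, nat_lit 1, nat_lit 5, nat_lit 6, nat_lit 1,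 nat_lit 6, nat_lit 7, nat_lit 5, nat_lit 3, nat_lit 2, nat_lit 6, nat_lit 2, nat_lit 6, nat_lit 5])) (TL.node (TL.leaf [nat_lit 20492, nat_lit 0, nat_lit 6, nat_lit 1, nat_lit 5, nat_lit 1, nat_lit 5, nat_lit 6, nat_lit 5, nat_lit 2, nat_lit 5, nat_lit 3, nat_lit 5]) (TL.leaf [nat_lit 32797, nat_lit 5, nat_lit 3, nat_lit 6, nat_lit 1, nat_lit 5, nat_lit 6, nat_lit 4, nat_lit 5, nat_lit 6, nat_lit 1, nat_lit 6, nat_lit 4, nat_lit 6, nat_lit 4, nat_lit 5, nat_lit 0]))) (TL.node (TL.node (TL.leaf [nat_lit 16385, nat_lit 6, nat_lit 0, nat_lit 1, nat_lit 3, nat_lit 6, nat_lit 5, nat_lit 1, nat_lit 4, nat_lit 2, nat_lit 5, nat_lit 4]) (TL.leaf [nat_lit 28680, nat_lit 6, nat_lit 3, nat_lit 6, nat_lit 1, nat_lit 4, nat_lit 6, nat_lit 4, nat_lit 6, nat_lit 1, nat_lit 3, nat_lit 1])) (TL.leaf [nat_lit 32790, nat_lit 5, nat_lit 3, nat_lit 6, nat_lit 5, nat_lit 2, nat_lit 6, nat_lit 4, nat_lit 5, nat_lit 0, nat_lit 5, nat_lit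 3, nat_lit 6, nat_lit 3, nat_lit 6, nat_lit 2, nat_lit 6]))))))
def W_t3 : TL := (TL.node W_t1 W_t2)
def W_t4 : TL := (TL.node (TL.node (TL.node (TL.node (TL.node (TL.node (TL.leaf [nat_lit 2050, nat_lit 3, nat_lit 4, nat_lit 4]) (TL.leaf [nat_lit 16394, nat_lit 1, nat_lit 5, nat_lit 6, nat_lit 4, nat_lit 2, nat_lit 0, nat_lit 6, nat_lit 3, nat_lit 5, nat_lit 1, nat_lit 3])) (TL.node (TL.leaf [nat_lit 18445, nat_lit 1, nat_lit 5, nat_lit 3, nat_lit 5, nat_lit 4, nat_lit 5, nat_lit 6, nat_lit 0, nat_lit 5, nat_lit 0, nat_lit 6, nat_lit 3]) (TL.leaf [nat_lit 45073, nat_lit 5, nat_lit 6, nat_lit 4, nat_lit 6, nat_lit 5, nat_lit 0, nat_lit 7, nat_lit 5, nat_lit 6, nat_lit 3, nat_lit 6, nat_lit 5, nat_lit 7, nat_lit 0]))) (TL.node (TL.node (TL.leaf [nat_lit 61445, nat_lit 0, nat_lit 6, nat_lit 7, nat_lit 0, nat_lit 6, nat_lit 0, nat_lit 6, nat_lit 7, nat_lit 0, nat_lit 6, nat_lit 0, nat_lit 6, nat_lit 0, nat_lit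 7, nat_lit 6]) (TL.leaf [nat_lit 16389, nat_lit 2, nat_lit 3, nat_lit 6, nat_lit 5, nat_lit 1, nat_lit 4, nat_lit 2, nat_lit 5, nat_lit 4, nat_lit 6, nat_lit 0])) (TL.node (TL.leaf [nat_lit 12297, nat_lit 5, nat_lit 1, nat_lit 0, nat_lit 3, nat_lit 5, nat_lit 0, nat_lit 1, nat_lit 3]) (TL.leaf [nat_lit 26639, nat_lit 6, nat_lit 4, nat_lit 2, nat_lit 5, nat_lit 4, nat_lit 5, nat_lit 1, nat_lit 6, nat_lit 2, nat_lit 6, nat_lit 5, nat_lit 6, nat_lit 5, nat_lit 1])))) (TL.node (TL.node (TL.node (TL.leaf [nat_lit 47132, nat_lit 5, nat_lit 6, nat_lit 5, nat_lit 7, nat_lit 6, nat_lit 5, nat_lit 4, nat_lit 5, nat_lit 3, nat_lit 6, nat_lit 4, nat_lit 5, nat_lit 2, nat_lit 7, nat_lit 5, nat_lit 4, nat_lit 7]) (TL.leaf [nat_lit 14341, nat_lit 5, nat_lit 2, nat_lit 3, nat_lit 5, nat_lit 1, nat_lit 5, nat_lit 3, nat_lit 0, nat_lit 5, nat_lit 3])) (TL.node (TL.leaf [nat_lit 16392, nat_lit 4, nat_lit 2, nat_lit 5, nat_lit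 6, nat_lit 4, nat_lit 2, nat_lit 0, nat_lit 6, nat_lit 3, nat_lit 5, nat_lit 1]) (TL.leaf [nat_lit 26635, nat_lit 5, nat_lit 1, nat_lit 6, nat_lit 4, nat_lit 2, nat_lit 5, nat_lit 4, nat_lit 5, nat_lit 1, nat_lit 6, nat_lit 2, nat_lit 6, nat_lit 5, nat_lit 6]))) (TL.node (TL.node (TL.leaf [nat_lit 16398, nat_lit 6, nat_lit 4, nat_lit 2, nat_lit 0, nat_lit 6, nat_lit 3, nat_lit 5, nat_lit 1, nat_lit 3, nat_lit 2, nat_lit 5]) (TL.leaf [nat_lit 16403, nat_lit 5, nat_lit 4, nat_lit 6, nat_lit 0, nat_lit 1, nat_lit 3, nat_lit 6, nat_lit 5, nat_lit 1, nat_lit 4, nat_lit 2])) (TL.node (TL.leaf [nat_lit 8195, nat_lit 2, nat_lit 4, nat_lit 1, nat_lit 4, nat_lit 0]) (TL.leaf [nat_lit 45069, nat_lit 7, nat_lit 0, nat_lit 5, nat_lit 6, nat_lit 4, nat_lit 6, nat_lit 5, nat_lit 0, nat_lit 7, nat_lit 5, nat_lit 6, nat_lit 3, nat_lit 6, nat_lit 5]))))) (TL.node (TL.node (TL.node (TL.node (TL.leaf [nat_lit 4099, nat_lit 0, nat_lit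 2, nat_lit 0, nat_lit 1]) (TL.leaf [nat_lit 14356, nat_lit 5, nat_lit 0, nat_lit 4, nat_lit 5, nat_lit 2, nat_lit 5, nat_lit 4, nat_lit 1, nat_lit 5, nat_lit 4])) (TL.node (TL.leaf [nat_lit 22549, nat_lit 0, nat_lit 5, nat_lit 4, nat_lit 5, nat_lit 6, nat_lit 1, nat_lit 6, nat_lit 3, nat_lit 6, nat_lit 4, nat_lit 0, nat_lit 6, nat_lit 1, nat_lit 5]) (TL.leaf [nat_lit 22554, nat_lit 1, nat_lit 6, nat_lit 5, nat_lit 3, nat_lit 5, nat_lit 0, nat_lit 5, nat_lit 2, nat_lit 6, nat_lit 0, nat_lit 3, nat_lit 6, nat_lit 4, nat_lit 6]))) (TL.node (TL.node (TL.leaf [nat_lit 14344, nat_lit 1, nat_lit 5, nat_lit 4, nat_lit 1, nat_lit 5, nat_lit 4, nat_lit 5, nat_lit 0, nat_lit 4, nat_lit 5]) (TL.leaf [nat_lit 57356, nat_lit 6, nat_lit 0, nat_lit 1, nat_lit 7, nat_lit 5, nat_lit 1, nat_lit 6, nat_lit 0, nat_lit 7, nat_lit 6, nat_lit 2, nat_lit 5, nat_lit 7, nat_lit 3, nat_lit 6, nat_lit 0, nat_lit 2, nat_lit 5])) (TL.node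 (TL.leaf [nat_lit 43011, nat_lit 6, nat_lit 3, nat_lit 6, nat_lit 7, nat_lit 6, nat_lit 4, nat_lit 6, nat_lit 7]) (TL.leaf [nat_lit 32779, nat_lit 5, nat_lit 6, nat_lit 1, nat_lit 6, nat_lit 4, nat_lit 6, nat_lit 4, nat_lit 5, nat_lit 0, nat_lit 5, nat_lit 3, nat_lit 6, nat_lit 1, nat_lit 5, nat_lit 6, nat_lit 4])))) (TL.node (TL.node (TL.node (TL.leaf [nat_lit 8197, nat_lit 3, nat_lit 1, nat_lit 4, nat_lit 0, nat_lit 1]) (TL.leaf [nat_lit 45071, nat_lit 0, nat_lit 5, nat_lit 6, nat_lit 4, nat_lit 6, nat_lit 5, nat_lit 0, nat_lit 7, nat_lit 5, nat_lit 6, nat_lit 3, nat_lit 6, nat_lit 5, nat_lit 7])) (TL.node (TL.leaf [nat_lit 43019, nat_lit 6, nat_lit 4, nat_lit 6, nat_lit 7, nat_lit 6, nat_lit 3, nat_lit 6, nat_lit 7]) (TL.leaf [nat_lit 49179, nat_lit 0, nat_lit 7, nat_lit 6, nat_lit 1, nat_lit 5, nat_lit 2, nat_lit 6, nat_lit 7, nat_lit 0, nat_lit 6, nat_lit 1, nat_lit 5, nat_lit 2, nat_lit 6]))) (TL.node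 (TL.node (TL.leaf [nat_lit 8193, nat_lit 0, nat_lit 1, nat_lit 4, nat_lit 1, nat_lit 4]) (TL.leaf [nat_lit 14337, nat_lit 5, nat_lit 3, nat_lit 5, nat_lit 2, nat_lit 3, nat_lit 5, nat_lit 1, nat_lit 5, nat_lit 3, nat_lit 0])) (TL.leaf [nat_lit 28683, nat_lit 6, nat_lit 4, nat_lit 6, nat_lit 2, nat_lit 4, nat_lit 2, nat_lit 6, nat_lit 3, nat_lit 6, nat_lit 3, nat_lit 2]))))) (TL.node (TL.node (TL.node (TL.node (TL.node (TL.leaf [nat_lit 4103, nat_lit 0, nat_lit 1, nat_lit 0, nat_lit 2]) (TL.leaf [nat_lit 22552, nat_lit 6, nat_lit 2, nat_lit 6, nat_lit 5, nat_lit 3, nat_lit 5, nat_lit 0, nat_lit 5, nat_lit 2, nat_lit 6, nat_lit 0, nat_lit 3, nat_lit 6, nat_lit 4])) (TL.node (TL.leaf [nat_lit 36869, nat_lit 7, nat_lit 3, nat_lit 6, nat_lit 7, nat_lit 3, nat_lit 6, nat_lit 7, nat_lit 3, nat_lit 6]) (TL.leaf [nat_lit 28676, nat_lit 4, nat_lit 1, nat_lit 6, nat_lit 3, nat_lit 6, nat_lit 1, nat_lit 4, nat_lit 6, nat_lit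 4, nat_lit 6, nat_lit 1]))) (TL.node (TL.node (TL.leaf [nat_lit 38917, nat_lit 7, nat_lit 2, nat_lit 7, nat_lit 1]) (TL.leaf [nat_lit 20496, nat_lit 2, nat_lit 5, nat_lit 1, nat_lit 5, nat_lit 6, nat_lit 5, nat_lit 2, nat_lit 5, nat_lit 3, nat_lit 5, nat_lit 0, nat_lit 6])) (TL.node (TL.leaf [nat_lit 22553, nat_lit 3, nat_lit 5, nat_lit 6, nat_lit 1, nat_lit 6, nat_lit 3, nat_lit 6, nat_lit 4, nat_lit 0, nat_lit 6, nat_lit 1, nat_lit 5, nat_lit 0, nat_lit 5]) (TL.leaf [nat_lit 51226, nat_lit 2, nat_lit 6, nat_lit 7, nat_lit 5, nat_lit 3, nat_lit 2, nat_lit 6, nat_lit 2, nat_lit 6, nat_lit 5, nat_lit 7, nat_lit 5, nat_lit 1, nat_lit 5, nat_lit 6])))) (TL.node (TL.node (TL.node (TL.leaf [nat_lit 34819, nat_lit 7, nat_lit 0, nat_lit 7, nat_lit 0]) (TL.leaf [nat_lit 28687, nat_lit 6, nat_lit 2, nat_lit 4, nat_lit 2, nat_lit 6, nat_lit 3, nat_lit 6, nat_lit 3, nat_lit 2, nat_lit 6, nat_lit 4])) (TL.node (TL.leaf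 [nat_lit 22543, nat_lit 6, nat_lit 1, nat_lit 5, nat_lit 0, nat_lit 5, nat_lit 4, nat_lit 5, nat_lit 6, nat_lit 1, nat_lit 6, nat_lit 3, nat_lit 6, nat_lit 4, nat_lit 0]) (TL.leaf [nat_lit 30733, nat_lit 3, nat_lit 0, nat_lit 6, nat_lit 5, nat_lit 2, nat_lit 6, nat_lit 1, nat_lit 4, nat_lit 5, nat_lit 2, nat_lit 5, nat_lit 6, nat_lit 1, nat_lit 5, nat_lit 6, nat_lit 1, nat_lit 6]))) (TL.node (TL.node (TL.leaf [nat_lit 8196, nat_lit 1, nat_lit 3, nat_lit 2, nat_lit 0, nat_lit 3]) (TL.leaf [nat_lit 53249, nat_lit 7, nat_lit 5, nat_lit 0, nat_lit 5, nat_lit 7, nat_lit 6, nat_lit 5, nat_lit 6, nat_lit 7, nat_lit 3, nat_lit 6, nat_lit 2, nat_lit 5, nat_lit 3, nat_lit 5, nat_lit 0])) (TL.leaf [nat_lit 22538, nat_lit 5, nat_lit 2, nat_lit 6, nat_lit 0, nat_lit 3, nat_lit 6, nat_lit 4, nat_lit 6, nat_lit 2, nat_lit 6, nat_lit 5, nat_lit 3, nat_lit 5, nat_lit 0])))) (TL.node (TL.node (TL.node (TL.node (TL.leaf [nat_lit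 45063, nat_lit 4, nat_lit 6, nat_lit 5, nat_lit 7, nat_lit 0, nat_lit 5, nat_lit 6, nat_lit 4, nat_lit 6, nat_lit 5, nat_lit 0, nat_lit 7, nat_lit 5, nat_lit 6]) (TL.leaf [nat_lit 47117, nat_lit 5, nat_lit 7, nat_lit 1, nat_lit 5, nat_lit 3, nat_lit 6, nat_lit 4, nat_lit 5, nat_lit 3, nat_lit 5, nat_lit 6, nat_lit 7, nat_lit 5, nat_lit 6, nat_lit 5, nat_lit 7, nat_lit 3])) (TL.node (TL.leaf [nat_lit 12304, nat_lit 5, nat_lit 4, nat_lit 0, nat_lit 2, nat_lit 5, nat_lit 4, nat_lit 2, nat_lit 0]) (TL.leaf [nat_lit 28681, nat_lit 1, nat_lit 6, nat_lit 4, nat_lit 6, nat_lit 2, nat_lit 4, nat_lit 2, nat_lit 6, nat_lit 3, nat_lit 6, nat_lit 3]))) (TL.node (TL.node (TL.leaf [nat_lit 43009, nat_lit 7, nat_lit 6, nat_lit 3, nat_lit 6, nat_lit 7, nat_lit 6, nat_lit 4, nat_lit 6]) (TL.leaf [nat_lit 51218, nat_lit 5, nat_lit 1, nat_lit 5, nat_lit 6, nat_lit 1, nat_lit 6, nat_lit 7, nat_lit 5, nat_lit 3, nat_lit 2, nat_lit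 6, nat_lit 2, nat_lit 6, nat_lit 5, nat_lit 7])) (TL.node (TL.leaf [nat_lit 20481, nat_lit 6, nat_lit 5, nat_lit 2, nat_lit 5, nat_lit 2, nat_lit 6, nat_lit 0, nat_lit 5, nat_lit 4, nat_lit 5, nat_lit 1, nat_lit 5]) (TL.leaf [nat_lit 20485, nat_lit 1, nat_lit 5, nat_lit 2, nat_lit 6, nat_lit 0, nat_lit 5, nat_lit 4, nat_lit 5, nat_lit 1, nat_lit 5, nat_lit 6, nat_lit 5])))) (TL.node (TL.node (TL.node (TL.leaf [nat_lit 14350, nat_lit 2, nat_lit 5, nat_lit 4, nat_lit 5, nat_lit 0, nat_lit 4, nat_lit 5, nat_lit 2, nat_lit 5, nat_lit 4]) (TL.leaf [nat_lit 22541, nat_lit 0, nat_lit 6, nat_lit 1, nat_lit 5, nat_lit 0, nat_lit 5, nat_lit 4, nat_lit 5, nat_lit 6, nat_lit 1, nat_lit 6, nat_lit 3, nat_lit 6, nat_lit 4])) (TL.node (TL.leaf [nat_lit 16406, nat_lit 6, nat_lit 3, nat_lit 5, nat_lit 1, nat_lit 3, nat_lit 2, nat_lit 5, nat_lit 6, nat_lit 4, nat_lit 2, nat_lit 0]) (TL.leaf [nat_lit 32782, nat_lit 4, nat_lit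 6, nat_lit 2, nat_lit 6, nat_lit 5, nat_lit 3, nat_lit 6, nat_lit 5, nat_lit 2, nat_lit 6, nat_lit 4, nat_lit 5, nat_lit 0, nat_lit 5, nat_lit 3, nat_lit 6]))) (TL.node (TL.node (TL.leaf [nat_lit 28685, nat_lit 3, nat_lit 6, nat_lit 2, nat_lit 4, nat_lit 2, nat_lit 6, nat_lit 3, nat_lit 6, nat_lit 3, nat_lit 2, nat_lit 6]) (TL.leaf [nat_lit 10242, nat_lit 5, nat_lit 4, nat_lit 5, nat_lit 4, nat_lit 5, nat_lit 4, nat_lit 5, nat_lit 4, nat_lit 5, nat_lit 4])) (TL.leaf [nat_lit 32794, nat_lit 6, nat_lit 5, nat_lit 2, nat_lit 6, nat_lit 4, nat_lit 5, nat_lit 0, nat_lit 5, nat_lit 3, nat_lit 6, nat_lit 3, nat_lit 6, nat_lit 2, nat_lit 6, nat_lit 5, nat_lit 3]))))))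
def W_t5 : TL := (TL.node (TL.node (TL.node (TL.node (TL.node (TL.node (TL.leaf [nat_lit 38915, nat_lit 2, nat_lit 7, nat_lit 2, nat_lit 7]) (TL.leaf [nat_lit 22531, nat_lit 2, nat_lit 6, nat_lit 3, nat_lit 6, nat_lit 4, nat_lit 0, nat_lit 6, nat_lit 1, nat_lit 5, nat_lit 0, nat_lit 5, nat_lit 4, nat_lit 5, nat_lit 6])) (TL.node (TL.leaf [nat_lit 12289, nat_lit 5, nat_lit 0, nat_lit 1, nat_lit 3, nat_lit 5, nat_lit 1, nat_lit 0, nat_lit 3]) (TL.leaf [nat_lit 8200, nat_lit 1, nat_lit 0, nat_lit 3, nat_lit 2, nat_lit 3]))) (TL.node (TL.node (TL.leaf [nat_lit 53260, nat_lit 6, nat_lit 4, nat_lit 7, nat_lit 6, nat_lit 5, nat_lit 6, nat_lit 7, nat_lit 5, nat_lit 0, nat_lit 5, nat_lit 7, nat_lit 0, nat_lit 5, nat_lit 4, nat_lit 5, nat_lit 1]) (TL.leaf [nat_lit 14351, nat_lit 5, nat_lit 3, nat_lit 0, nat_lit 5, nat_lit 3, nat_lit 5, nat_lit 2, nat_lit 3, nat_lit 5, nat_lit 1])) (TL.node (TL.leaf [nat_lit 16391, nat_lit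 4, nat_lit 6, nat_lit 5, nat_lit 1, nat_lit 4, nat_lit 2, nat_lit 5, nat_lit 4, nat_lit 6, nat_lit 0, nat_lit 1]) (TL.leaf [nat_lit 51205, nat_lit 1, nat_lit 6, nat_lit 5, nat_lit 2, nat_lit 5, nat_lit 7, nat_lit 5, nat_lit 6, nat_lit 1, nat_lit 6, nat_lit 1, nat_lit 4, nat_lit 5, nat_lit 7, nat_lit 6])))) (TL.node (TL.node (TL.node (TL.leaf [nat_lit 55326, nat_lit 7, nat_lit 6, nat_lit 0, nat_lit 5, nat_lit 7, nat_lit 0, nat_lit 4, nat_lit 6, nat_lit 0, nat_lit 2, nat_lit 5, nat_lit 6, nat_lit 1, nat_lit 4, nat_lit 7, nat_lit 5, nat_lit 0, nat_lit 6, nat_lit 0]) (TL.leaf [nat_lit 14352, nat_lit 5, nat_lit 4, nat_lit 5, nat_lit 0, nat_lit 4, nat_lit 5, nat_lit 2, nat_lit 5, nat_lit 4, nat_lit 1])) (TL.node (TL.leaf [nat_lit 18437, nat_lit 5, nat_lit 0, nat_lit 6, nat_lit 3, nat_lit 2, nat_lit 5, nat_lit 3, nat_lit 5, nat_lit 4, nat_lit 5, nat_lit 6, nat_lit 0]) (TL.leaf [nat_lit 30753, nat_lit 5, nat_lit 6,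 nat_lit 1, nat_lit 5, nat_lit 6, nat_lit 1, nat_lit 6, nat_lit 4, nat_lit 0, nat_lit 6, nat_lit 5, nat_lit 2, nat_lit 6, nat_lit 1, nat_lit 4, nat_lit 5, nat_lit 2]))) (TL.node (TL.node (TL.leaf [nat_lit 6151, nat_lit 0, nat_lit 3, nat_lit 0, nat_lit 4]) (TL.leaf [nat_lit 51201, nat_lit 7, nat_lit 6, nat_lit 2, nat_lit 6, nat_lit 5, nat_lit 2, nat_lit 5, nat_lit 7, nat_lit 5, nat_lit 6, nat_lit 1, nat_lit 6, nat_lit 1, nat_lit 4, nat_lit 5])) (TL.leaf [nat_lit 14353, nat_lit 4, nat_lit 0, nat_lit 5, nat_lit 3, nat_lit 5, nat_lit 2, nat_lit 3, nat_lit 5, nat_lit 1, nat_lit 5])))) (TL.node (TL.node (TL.node (TL.node (TL.leaf [nat_lit 43013, nat_lit 4, nat_lit 6, nat_lit 7, nat_lit 6, nat_lit 4, nat_lit 6, nat_lit 7, nat_lit 6]) (TL.leaf [nat_lit 51207, nat_lit 6, nat_lit 5, nat_lit 2, nat_lit 5, nat_lit 7, nat_lit 5, nat_lit 6, nat_lit 1, nat_lit 6, nat_lit 1, nat_lit 4, nat_lit 5, nat_lit 7, nat_lit 6, nat_lit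 2])) (TL.node (TL.leaf [nat_lit 12295, nat_lit 4, nat_lit 5, nat_lit 1, nat_lit 0, nat_lit 3, nat_lit 5, nat_lit 0, nat_lit 1]) (TL.leaf [nat_lit 47107, nat_lit 5, nat_lit 6, nat_lit 5, nat_lit 7, nat_lit 3, nat_lit 5, nat_lit 7, nat_lit 1, nat_lit 5, nat_lit 3, nat_lit 6, nat_lit 4, nat_lit 5, nat_lit 3, nat_lit 5, nat_lit 6, nat_lit 7]))) (TL.node (TL.node (TL.leaf [nat_lit 4101, nat_lit 1, nat_lit 0, nat_lit 1, nat_lit 0]) (TL.leaf [nat_lit 22533, nat_lit 6, nat_lit 3, nat_lit 6, nat_lit 4, nat_lit 0, nat_lit 6, nat_lit 1, nat_lit 5, nat_lit 0, nat_lit 5, nat_lit 4, nat_lit 5, nat_lit 6, nat_lit 1])) (TL.node (TL.leaf [nat_lit 16387, nat_lit 0, nat_lit 1, nat_lit 3, nat_lit 6, nat_lit 5, nat_lit 1, nat_lit 4, nat_lit 2, nat_lit 5, nat_lit 4, nat_lit 6]) (TL.leaf [nat_lit 30735, nat_lit 0, nat_lit 6, nat_lit 5, nat_lit 2, nat_lit 6, nat_lit 1, nat_lit 4, nat_lit 5, nat_lit 2, nat_lit 5, nat_lit 6, nat_lit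 1, nat_lit 5, nat_lit 6, nat_lit 1, nat_lit 6, nat_lit 4])))) (TL.node (TL.node (TL.node (TL.leaf [nat_lit 12300, nat_lit 1, nat_lit 0, nat_lit 5, nat_lit 4, nat_lit 0, nat_lit 2, nat_lit 5, nat_lit 4]) (TL.leaf [nat_lit 28693, nat_lit 1, nat_lit 6, nat_lit 3, nat_lit 6, nat_lit 3, nat_lit 2, nat_lit 6, nat_lit 4, nat_lit 6, nat_lit 2, nat_lit 4])) (TL.node (TL.leaf [nat_lit 28694, nat_lit 6, nat_lit 1, nat_lit 3, nat_lit 1, nat_lit 6, nat_lit 3, nat_lit 6, nat_lit 1, nat_lit 4, nat_lit 6, nat_lit 4]) (TL.leaf [nat_lit 57360, nat_lit 2, nat_lit 7, nat_lit 5, nat_lit 1, nat_lit 6, nat_lit 0, nat_lit 7, nat_lit 6, nat_lit 2, nat_lit 5, nat_lit 7, nat_lit 3, nat_lit 6, nat_lit 0, nat_lit 2, nat_lit 5, nat_lit 6, nat_lit 0]))) (TL.node (TL.node (TL.leaf [nat_lit 12291, nat_lit 0, nat_lit 1, nat_lit 3, nat_lit 5, nat_lit 1, nat_lit 0, nat_lit 3, nat_lit 5]) (TL.leaf [nat_lit 45057, nat_lit 7, nat_lit 5, nat_lit 6,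 nat_lit 3, nat_lit 6, nat_lit 5, nat_lit 7, nat_lit 0, nat_lit 5, nat_lit 6, nat_lit 4, nat_lit 6, nat_lit 5, nat_lit 0])) (TL.leaf [nat_lit 18453, nat_lit 3, nat_lit 5, nat_lit 6, nat_lit 0, nat_lit 5, nat_lit 0, nat_lit 6, nat_lit 3, nat_lit 2, nat_lit 5, nat_lit 3, nat_lit 5]))))) (TL.node (TL.node (TL.node (TL.node (TL.node (TL.leaf [nat_lit 38919, nat_lit 1, nat_lit 7, nat_lit 1, nat_lit 7]) (TL.leaf [nat_lit 47119, nat_lit 7, nat_lit 1, nat_lit 5, nat_lit 3, nat_lit 6, nat_lit 4, nat_lit 5, nat_lit 3, nat_lit 5, nat_lit 6, nat_lit 7, nat_lit 5, nat_lit 6, nat_lit 5, nat_lit 7, nat_lit 3, nat_lit 5])) (TL.node (TL.leaf [nat_lit 26627, nat_lit 1, nat_lit 6, nat_lit 5, nat_lit 6, nat_lit 5, nat_lit 1, nat_lit 6, nat_lit 4, nat_lit 2, nat_lit 5, nat_lit 4, nat_lit 5, nat_lit 1, nat_lit 6]) (TL.leaf [nat_lit 18456, nat_lit 6, nat_lit 5, nat_lit 3, nat_lit 5, nat_lit 4, nat_lit 5, nat_lit 1, nat_lit 4, nat_lit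 6, nat_lit 0, nat_lit 5, nat_lit 0]))) (TL.node (TL.node (TL.leaf [nat_lit 8201, nat_lit 3, nat_lit 0, nat_lit 1, nat_lit 4, nat_lit 1]) (TL.leaf [nat_lit 22545, nat_lit 2, nat_lit 5, nat_lit 0, nat_lit 5, nat_lit 4, nat_lit 5, nat_lit 6, nat_lit 1, nat_lit 6, nat_lit 3, nat_lit 6, nat_lit 4, nat_lit 0, nat_lit 6])) (TL.node (TL.leaf [nat_lit 32771, nat_lit 2, nat_lit 5, nat_lit 6, nat_lit 4, nat_lit 5, nat_lit 6, nat_lit 1, nat_lit 6, nat_lit 4, nat_lit 6, nat_lit 4, nat_lit 5, nat_lit 0, nat_lit 5, nat_lit 3, nat_lit 6]) (TL.leaf [nat_lit 53280, nat_lit 7, nat_lit 0, nat_lit 5, nat_lit 4, nat_lit 5, nat_lit 1, nat_lit 6, nat_lit 4, nat_lit 7, nat_lit 6, nat_lit 5, nat_lit 6, nat_lit 7, nat_lit 5, nat_lit 0, nat_lit 5])))) (TL.node (TL.node (TL.node (TL.leaf [nat_lit 40965, nat_lit 7, nat_lit 4, nat_lit 7, nat_lit 3]) (TL.leaf [nat_lit 22550, nat_lit 3, nat_lit 6, nat_lit 2, nat_lit 6, nat_lit 5, nat_lit 3,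 nat_lit 5, nat_lit 0, nat_lit 5, nat_lit 2, nat_lit 6, nat_lit 0, nat_lit 3, nat_lit 6])) (TL.node (TL.leaf [nat_lit 22530, nat_lit 5, nat_lit 3, nat_lit 5, nat_lit 0, nat_lit 5, nat_lit 2, nat_lit 6, nat_lit 0, nat_lit 3, nat_lit 6, nat_lit 4, nat_lit 6, nat_lit 2, nat_lit 6]) (TL.leaf [nat_lit 57349, nat_lit 2, nat_lit 6, nat_lit 7, nat_lit 0, nat_lit 6, nat_lit 2, nat_lit 5, nat_lit 7, nat_lit 2, nat_lit 0, nat_lit 6, nat_lit 5, nat_lit 1, nat_lit 0, nat_lit 6, nat_lit 4, nat_lit 7, nat_lit 5]))) (TL.node (TL.node (TL.leaf [nat_lit 12293, nat_lit 2, nat_lit 3, nat_lit 5, nat_lit 1, nat_lit 0, nat_lit 3, nat_lit 5, nat_lit 0]) (TL.leaf [nat_lit 30746, nat_lit 1, nat_lit 6, nat_lit 5, nat_lit 2, nat_lit 6, nat_lit 5, nat_lit 1, nat_lit 5, nat_lit 3, nat_lit 2, nat_lit 6, nat_lit 1, nat_lit 5, nat_lit 6, nat_lit 0, nat_lit 3, nat_lit 6])) (TL.leaf [nat_lit 55316, nat_lit 7, nat_lit 5, nat_lit 0, nat_lit 6, nat_lit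 0, nat_lit 7, nat_lit 6, nat_lit 0, nat_lit 5, nat_lit 7, nat_lit 0, nat_lit 4, nat_lit 6, nat_lit 0, nat_lit 2, nat_lit 5, nat_lit 6, nat_lit 1, nat_lit 4])))) (TL.node (TL.node (TL.node (TL.node (TL.leaf [nat_lit 51224, nat_lit 6, nat_lit 1, nat_lit 6, nat_lit 7, nat_lit 5, nat_lit 3, nat_lit 2, nat_lit 6, nat_lit 2, nat_lit 6, nat_lit 5, nat_lit 7, nat_lit 5, nat_lit 1, nat_lit 5]) (TL.leaf [nat_lit 55334, nat_lit 7, nat_lit 0, nat_lit 4, nat_lit 6, nat_lit 0, nat_lit 2, nat_lit 5, nat_lit 6, nat_lit 1, nat_lit 4, nat_lit 7, nat_lit 5, nat_lit 0, nat_lit 6, nat_lit 0, nat_lit 7, nat_lit 6, nat_lit 0, nat_lit 5])) (TL.node (TL.leaf [nat_lit 10241, nat_lit 4, nat_lit 5, nat_lit 3, nat_lit 5, nat_lit 3, nat_lit 5, nat_lit 3, nat_lit 5, nat_lit 3, nat_lit 5]) (TL.leaf [nat_lit 20495, nat_lit 5, nat_lit 4, nat_lit 5, nat_lit 1, nat_lit 5, nat_lit 6, nat_lit 5, nat_lit 2, nat_lit 5, nat_lit 2, nat_lit 6, nat_lit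 0]))) (TL.node (TL.node (TL.leaf [nat_lit 14339, nat_lit 4, nat_lit 5, nat_lit 2, nat_lit 3, nat_lit 5, nat_lit 1, nat_lit 5, nat_lit 3, nat_lit 0, nat_lit 5]) (TL.leaf [nat_lit 55320, nat_lit 0, nat_lit 6, nat_lit 0, nat_lit 7, nat_lit 6, nat_lit 0, nat_lit 5, nat_lit 7, nat_lit 0, nat_lit 4, nat_lit 6, nat_lit 0, nat_lit 2, nat_lit 5, nat_lit 6, nat_lit 1, nat_lit 4, nat_lit 7, nat_lit 5])) (TL.node (TL.leaf [nat_lit 24589, nat_lit 0, nat_lit 6, nat_lit 1, nat_lit 3, nat_lit 1, nat_lit 5, nat_lit 1, nat_lit 5, nat_lit 4, nat_lit 5, nat_lit 1, nat_lit 6, nat_lit 2, nat_lit 5, nat_lit 3, nat_lit 5, nat_lit 6]) (TL.leaf [nat_lit 51229, nat_lit 5, nat_lit 7, nat_lit 6, nat_lit 2, nat_lit 6, nat_lit 5, nat_lit 2, nat_lit 5, nat_lit 7, nat_lit 5, nat_lit 6, nat_lit 1, nat_lit 6, nat_lit 1, nat_lit 4])))) (TL.node (TL.node (TL.node (TL.leaf [nat_lit 22534, nat_lit 5, nat_lit 0, nat_lit 5, nat_lit 2, nat_lit 6, nat_lit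 0, nat_lit 3, nat_lit 6, nat_lit 4, nat_lit 6, nat_lit 2, nat_lit 6, nat_lit 5, nat_lit 3]) (TL.leaf [nat_lit 30752, nat_lit 1, nat_lit 6, nat_lit 5, nat_lit 1, nat_lit 5, nat_lit 3, nat_lit 2, nat_lit 6, nat_lit 1, nat_lit 5, nat_lit 6, nat_lit 0, nat_lit 3, nat_lit 6, nat_lit 2, nat_lit 6, nat_lit 5])) (TL.node (TL.leaf [nat_lit 24600, nat_lit 6, nat_lit 5, nat_lit 4, nat_lit 5, nat_lit 1, nat_lit 6, nat_lit 2, nat_lit 5, nat_lit 3, nat_lit 5, nat_lit 2, nat_lit 5, nat_lit 2, nat_lit 4, nat_lit 2, nat_lit 6, nat_lit 0]) (TL.leaf [nat_lit 47105, nat_lit 7, nat_lit 5, nat_lit 6, nat_lit 5, nat_lit 7, nat_lit 3, nat_lit 5, nat_lit 7, nat_lit 1, nat_lit 5, nat_lit 3, nat_lit 6, nat_lit 4, nat_lit 5, nat_lit 3, nat_lit 5, nat_lit 6]))) (TL.node (TL.node (TL.leaf [nat_lit 28675, nat_lit 4, nat_lit 6, nat_lit 3, nat_lit 2, nat_lit 6, nat_lit 4, nat_lit 6, nat_lit 2, nat_lit 4, nat_lit 2, nat_lit 6]) (TL.leaf [nat_lit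 28688, nat_lit 3, nat_lit 6, nat_lit 4, nat_lit 6, nat_lit 1, nat_lit 3, nat_lit 1, nat_lit 6, nat_lit 3, nat_lit 6, nat_lit 1])) (TL.leaf [nat_lit 32777, nat_lit 3, nat_lit 5, nat_lit 6, nat_lit 1, nat_lit 6, nat_lit 4, nat_lit 6, nat_lit 4, nat_lit 5, nat_lit 0, nat_lit 5, nat_lit 3, nat_lit 6, nat_lit 1, nat_lit 5, nat_lit 6]))))))
def W_t6 : TL := (TL.node W_t4 W_t5)
def W_t : TL := (TL.node W_t3 W_t6)
noncomputable def W (i : ℕ) : List ℕ := TL.get W_t i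
def WA_t : TL := (TL.leaf [nat_lit 0])
noncomputable def WA (i : ℕ) : List ℕ := TL.get WA_t i
noncomputable def row : ℕ → ℕ := hRow (nat_lit 415) (nat_lit 8) (nat_lit 7) (nat_lit 512) (nat_lit 256) (nat_lit 131072) (nat_lit 8192) (nat_lit 8192) (nat_lit 0) E X Pa inv (wfun (nat_lit 243) W_t)
noncomputable def aux : ℕ → ℕ := hAux (nat_lit 416) (nat_lit 8) (nat_lit 512) (nat_lit 131072) (nat_lit 8192) (nat_lit 2) (nat_lit 2) (nat_lit 8192) (nat_lit 0) E X J Pa inv WA_t.get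
theorem r0 : Nat.beq (rng row (nat_lit 0) (nat_lit 416)) (nat_lit 0) = true := by decide +kernel
theorem rows : ∀ i < 416, row i = 0 := by
  have h := zero_lt_zero row
  have h := zero_lt_add (a := (nat_lit 0)) (n := (nat_lit 416)) (b := (nat_lit 416)) h r0 rfl
  exact h
theorem auxs : ∀ i < 0, aux i = 0 := by
  have h := zero_lt_zero aux
  exact h
theorem closes.{u} : ClosesT.{u} inv rels 8 7 416 T :=
  hc_closes (N1 := (nat_lit 415)) rfl T_eq (by decide +kernel) rows auxs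
theorem T_inv : ∀ c < 416, ∀ j < 8, T j c < 416 ∧ T (inv j) (T j c) = c := 
  hc_inv (inv := inv) (N1 := (nat_lit 415)) rfl T_eq rows
end L4

def rels : List (List ℕ) := [[nat_lit 1, nat_lit 1, nat_lit 1], [nat_lit 3, nat_lit 3, nat_lit 3], [nat_lit 1, nat_lit 0, nat_lit 2, nat_lit 0], [nat_lit 3, nat_lit 0, nat_lit 4, nat_lit 0], [nat_lit 0, nat_lit 1, nat_lit 4, nat_lit 1, nat_lit 4], [nat_lit 3, nat_lit 5, nat_lit 3, nat_lit 5, nat_lit 3, nat_lit 5, nat_lit 3, nat_lit 5, nat_lit 3, nat_lit 5], [nat_lit 5, nat_lit 0, nat_lit 1, nat_lit 3, nat_lit 5, nat_lit 1, nat_lit 0, nat_lit 3], [nat_lit 5, nat_lit 3, nat_lit 5, nat_lit 2, nat_lit 3, nat_lit 5, nat_lit 1, nat_lit 5, nat_lit 3, nat_lit 0], [nat_lit 6, nat_lit 0, nat_lit 1, nat_lit 3, nat_lit 6, nat_lit 5, nat_lit 1, nat_lit 4, nat_lit 2, nat_lit 5, nat_lit 4], [nat_lit 6, nat_lit 0, nat_lit 5, nat_lit 0, nat_lit 6, nat_lit 3, nat_lit 2, nat_lit 5, nat_lit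 3, nat_lit 5, nat_lit 4, nat_lit 5], [nat_lit 6, nat_lit 5, nat_lit 2, nat_lit 5, nat_lit 2, nat_lit 6, nat_lit 0, nat_lit 5, nat_lit 4, nat_lit 5, nat_lit 1, nat_lit 5], [nat_lit 6, nat_lit 1, nat_lit 6, nat_lit 3, nat_lit 6, nat_lit 4, nat_lit 0, nat_lit 6, nat_lit 1, nat_lit 5, nat_lit 0, nat_lit 5, nat_lit 4, nat_lit 5], [nat_lit 6, nat_lit 2, nat_lit 5, nat_lit 3, nat_lit 5, nat_lit 6, nat_lit 0, nat_lit 6, nat_lit 1, nat_lit 3, nat_lit 1, nat_lit 5, nat_lit 1, nat_lit 5, nat_lit 4, nat_lit 5, nat_lit 1], [nat_lit 6, nat_lit 2, nat_lit 6, nat_lit 5, nat_lit 6, nat_lit 5, nat_lit 1, nat_lit 6, nat_lit 4, nat_lit 2, nat_lit 5, nat_lit 4, nat_lit 5, nat_lit 1], [nat_lit 6, nat_lit 3, nat_lit 6, nat_lit 3, nat_lit 2, nat_lit 6, nat_lit 4, nat_lit 6, nat_lit 2, nat_lit 4, nat_lit 2], [nat_lit 6, nat_lit 1, nat_lit 5, nat_lit 6, nat_lit 1, nat_lit 6, nat_lit 4, nat_lit 0, nat_lit 6, nat_lit 5, nat_lit 2, nat_lit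 6, nat_lit 1, nat_lit 4, nat_lit 5, nat_lit 2, nat_lit 5], [nat_lit 6, nat_lit 1, nat_lit 5, nat_lit 6, nat_lit 4, nat_lit 5, nat_lit 6, nat_lit 1, nat_lit 6, nat_lit 4, nat_lit 6, nat_lit 4, nat_lit 5, nat_lit 0, nat_lit 5, nat_lit 3], [nat_lit 0, nat_lit 7, nat_lit 0, nat_lit 7], [nat_lit 3, nat_lit 6, nat_lit 7, nat_lit 3, nat_lit 6, nat_lit 7, nat_lit 3, nat_lit 6, nat_lit 7], [nat_lit 7, nat_lit 1, nat_lit 7, nat_lit 2], [nat_lit 7, nat_lit 3, nat_lit 7, nat_lit 4], [nat_lit 7, nat_lit 6, nat_lit 3, nat_lit 6, nat_lit 7, nat_lit 6, nat_lit 4, nat_lit 6], [nat_lit 7, nat_lit 5, nat_lit 6, nat_lit 3, nat_lit 6, nat_lit 5, nat_lit 7, nat_lit 0, nat_lit 5, nat_lit 6, nat_lit 4, nat_lit 6, nat_lit 5, nat_lit 0], [nat_lit 7, nat_lit 5, nat_lit 6, nat_lit 5, nat_lit 7, nat_lit 3, nat_lit 5, nat_lit 7, nat_lit 1, nat_lit 5, nat_lit 3, nat_lit 6, nat_lit 4, nat_lit 5, nat_lit 3, nat_lit 5, nat_lit 6], [nat_lit 7,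 nat_lit 6, nat_lit 1, nat_lit 5, nat_lit 2, nat_lit 6, nat_lit 7, nat_lit 0, nat_lit 6, nat_lit 1, nat_lit 5, nat_lit 2, nat_lit 6, nat_lit 0], [nat_lit 7, nat_lit 6, nat_lit 2, nat_lit 6, nat_lit 5, nat_lit 2, nat_lit 5, nat_lit 7, nat_lit 5, nat_lit 6, nat_lit 1, nat_lit 6, nat_lit 1, nat_lit 4, nat_lit 5], [nat_lit 7, nat_lit 5, nat_lit 0, nat_lit 5, nat_lit 7, nat_lit 6, nat_lit 5, nat_lit 6, nat_lit 7, nat_lit 3, nat_lit 6, nat_lit 2, nat_lit 5, nat_lit 3, nat_lit 5, nat_lit 0], [nat_lit 7, nat_lit 5, nat_lit 0, nat_lit 6, nat_lit 7, nat_lit 0, nat_lit 6, nat_lit 0, nat_lit 5, nat_lit 7, nat_lit 3, nat_lit 2, nat_lit 6, nat_lit 5, nat_lit 1, nat_lit 0, nat_lit 6, nat_lit 3, nat_lit 0], [nat_lit 7, nat_lit 5, nat_lit 1, nat_lit 6, nat_lit 7, nat_lit 0, nat_lit 6, nat_lit 2, nat_lit 5, nat_lit 7, nat_lit 2, nat_lit 0, nat_lit 6, nat_lit 5, nat_lit 1, nat_lit 0, nat_lit 6, nat_lit 4], [nat_lit 7, nat_lit 5,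 nat_lit 2, nat_lit 6, nat_lit 3, nat_lit 6, nat_lit 7, nat_lit 2, nat_lit 5, nat_lit 7, nat_lit 3, nat_lit 5, nat_lit 4, nat_lit 6, nat_lit 5, nat_lit 6, nat_lit 5, nat_lit 0], [nat_lit 7, nat_lit 6, nat_lit 0, nat_lit 6, nat_lit 7, nat_lit 0, nat_lit 6, nat_lit 0, nat_lit 6, nat_lit 7, nat_lit 0, nat_lit 6, nat_lit 0, nat_lit 6, nat_lit 0]]
def inv (i : ℕ) : ℕ := Nat.land (Nat.shiftRight (nat_lit 0xfab850) (Nat.mul (nat_lit 3) i)) (nat_lit 7)
theorem ub5 {Γ : Type} [Group Γ] {g : ℕ → Γ} (h1 : InvOK g inv 8) (h2 : ∀ w ∈ rels, ev g w = 1) : CardLE (gen g 5) 24 :=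
  tw h1 h2 L1.closes (by decide +kernel) (cardLE_gen_zero g)
theorem ub6 {Γ : Type} [Group Γ] {g : ℕ → Γ} (h1 : InvOK g inv 8) (h2 : ∀ w ∈ rels, ev g w = 1) : CardLE (gen g 6) 1920 :=
  tw h1 h2 L2.closes (by decide +kernel) (ub5 h1 h2)
theorem ub7 {Γ : Type} [Group Γ] {g : ℕ → Γ} (h1 : InvOK g inv 8) (h2 : ∀ w ∈ rels, ev g w = 1) : CardLE (gen g 7) 604800 :=
  tw h1 h2 L3.closes (by decide +kernel) (ub6 h1 h2)
theorem ub8 {Γ : Type} [Group Γ] {g : ℕ → Γ} (h1 : InvOK g inv 8) (h2 : ∀ w ∈ rels, ev g w = 1) : CardLE (gen g 8) 251596800 :=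
  tw h1 h2 L4.closes (by decide +kernel) (ub7 h1 h2)

end Cfsg.Agent.Ct.G24
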